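import Mathlib
import Groth.Agent.SurfSeq.Stalks
import Groth.Agent.PointBlow.Step
import Groth.Agent.Lib.BlowUpInt
import Groth.Agent.BMLib.Birat
import Groth.Agent.Approx.DimBound
import Groth.Agent.S7359
import Groth.Agent.S5094
import Groth.Prelude.Def_ResolveSeq

/-!
# One normalized blow-up of a closed point of a normal surface
-/

set_option autoImplicit false
set_option linter.style.haveILetI false
set_option linter.unusedSectionVars false
set_option backward.isDefEq.respectTransparency false
set_option backward.isDefEq.respectTransparency.types false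
set_option maxHeartbeats 800000

universe u

open CategoryTheory CategoryTheory.Limits AlgebraicGeometry TopologicalSpace IsLocalRing
open Groth.Agent.H23.StalkIdeal
open Groth.Agent.PointBlow (pt)

noncomputable section

namespace Groth.Agent.NormSeq

/-- Integral Noetherian normal schemes of dimension at most two over which birational schemes of finite type
have finite normalisation. -/
structure Nice (Z : Scheme.{u}) : Prop where
  integral : IsIntegral Z
  noeth : IsNoetherian Z
  normal : Pi1.IsNormalScheme Z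
  fin : ∀ (Z' : Scheme.{u}) [IsIntegral Z'] (g : Z' ⟶ Z) [LocallyOfFiniteType g],
    IsIso (g.stalkMap (genericPoint Z')) →
      ∀ [QuasiCompact (Z'.fromSpecStalk (genericPoint Z'))] [QuasiSeparated (Z'.fromSpecStalk (genericPoint Z'))],
        IsFinite (Curv2.normalizationι Z')
  dim : ∀ z : Z, ringKrullDim (Z.presheaf.stalk z) ≤ 2

/-- Birational compositions keep birational stalk maps. -/
theorem isIso_stalkMap_comp {X Y W : Scheme.{u}} [IsIntegral X] [IsIntegral Y] (g : X ⟶ Y) (f : Y ⟶ W)
    [LocallyOfFiniteType g] (hg : IsIso (g.stalkMap (genericPoint X))) (hf : IsIso (f.stalkMap (genericPoint Y))) :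
    IsIso ((g ≫ f).stalkMap (genericPoint X)) := by
  rw [Scheme.Hom.stalkMap_comp]
  haveI := hg
  haveI : IsIso (f.stalkMap (g (genericPoint X))) := by rw [SurfSeq.map_generic g hg]; exact hf
  infer_instance

/-- Finiteness of normalisations passes to birational schemes of finite type. -/
theorem Nice.fin_comp {Z W : Scheme.{u}} (hZ : Nice Z) [IsIntegral W] (f : W ⟶ Z) [LocallyOfFiniteType f]
    (hf : IsIso (f.stalkMap (genericPoint W))) : ∀ (Z' : Scheme.{u}) [IsIntegral Z'] (g : Z' ⟶ W)
    [LocallyOfFiniteType g], IsIso (g.stalkMap (genericPoint Z')) →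
      ∀ [QuasiCompact (Z'.fromSpecStalk (genericPoint Z'))] [QuasiSeparated (Z'.fromSpecStalk (genericPoint Z'))],
        IsFinite (Curv2.normalizationι Z') := fun Z' _ g _ hg _ _ =>
  hZ.fin Z' (g ≫ f) (isIso_stalkMap_comp g f hg hf)

/-- Nagata schemes have finite normalisations over them. -/
theorem Nice.of_nagata {Z : Scheme.{u}} (h1 : IsIntegral Z) (h2 : IsNoetherian Z) (h3 : Pi1.IsNormalScheme Z)
    (h4 : ∀ U : Z.affineOpens, CAlg.IsNagata Γ(Z, U.1))
    (h5 : ∀ z : Z, ringKrullDim (Z.presheaf.stalk z) ≤ 2) : Nice Z := by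
  refine ⟨h1, h2, h3, fun Z' _ g _ _ _ _ => ?_, h5⟩
  have hX' : ∀ (U : Z'.Opens), IsAffineOpen U → CAlg.IsNagata Γ(Z', U) := fun U hU =>
    AlgSpDec.NagataLocal.isNagata_affineOpen g (fun V : Z.affineOpens => V.1) (iSup_affineOpens_eq_top Z)
      (fun V => V.2) h4 U hU
  exact S9688.result Z' fun U hU hne => by
    haveI : IsDomain Γ(Z', U) := @IsIntegral.component_integral Z' _ U hne
    exact N12Aux.isN2_of_isNagata (hX' U hU)

section Birational

variable {X Y : Scheme.{u}} [IsIntegral X] [IsIntegral Y] (f : X ⟶ Y) [LocallyOfFiniteType f]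
  (hbir : IsIso (f.stalkMap (genericPoint X)))
include hbir

theorem dim_le [IsLocallyNoetherian Y] (x : X) :
    ringKrullDim (X.presheaf.stalk x) ≤ ringKrullDim (Y.presheaf.stalk (f x)) := by
  haveI := LocallyOfFiniteType.isLocallyNoetherian f
  have hmax : ∀ ξ : X, closure {ξ} ∈ irreducibleComponents ↥X → ξ ⤳ x → FibDim.rd f ξ ≤ 0 := by
    intro ξ hξ _
    obtain rfl : ξ = genericPoint X := by
      have h := hξ.2 (IrreducibleSpace.isIrreducible_univ X) (Set.subset_univ _)
      exact IsGenericPoint.eq (isGenericPoint_def.2 (Set.univ_subset_iff.1 h)) (genericPoint_spec X)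
    refine Approx.DimBound.rd_le_of_trdeg (n := 0) f ?_
    letI := (f.residueFieldMap (genericPoint X)).hom.toAlgebra
    haveI := hbir
    have hsurj : Function.Surjective (f.residueFieldMap (genericPoint X)) := fun y => by
      obtain ⟨a, rfl⟩ := X.residue_surjective (genericPoint X) y
      obtain ⟨b, rfl⟩ := (ConcreteCategory.bijective_of_isIso (f.stalkMap (genericPoint X))).2 a
      exact ⟨Y.residue _ b, congr($(Scheme.residue_residueFieldMap f (genericPoint X)) b)⟩
    haveI : Algebra.IsAlgebraic (Y.residueField (f.base (genericPoint X))) (X.residueField (genericPoint X)) :=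
      ⟨fun z => by obtain ⟨a, rfl⟩ := hsurj z; exact isAlgebraic_algebraMap a⟩
    simpa using (trdeg_eq_zero (R := Y.residueField (f.base (genericPoint X))) (A := X.residueField (genericPoint X))).le
  rw [DimFormula.ringKrullDim_stalk, DimFormula.ringKrullDim_stalk]
  have h2 := Approx.DimBound.codim_add_rd_le f x 0 hmax
  simp only [Nat.cast_zero, add_zero] at h2
  exact_mod_cast le_self_add.trans h2

theorem isEffCartier_comap [IsLocallyNoetherian X] {D : Y.IdealSheafData} (hD : BlowUp.IsEffCartierIdeal D) :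
    BlowUp.IsEffCartierIdeal (D.comap f) := by
  refine MeroX.isEffCartier_of_stalk _ fun x _ U hxU => ?_
  obtain ⟨γ, hγ, hγD⟩ := exists_gen hD (f x)
  refine ⟨f.stalkMap x γ, mem_nonZeroDivisors_of_ne_zero fun h =>
    nonZeroDivisors.ne_zero hγ (SurfSeq.injective_stalk f hbir x (h.trans (map_zero _).symm)), ?_⟩
  refine (sI_eq _ U hxU).symm.trans ?_
  rw [sI_comap, hγD, Ideal.map_span, Set.image_singleton]

/-- A finite birational morphism is a local isomorphism over normal points. -/
theorem isIso_of_finite [IsFinite f] (x : X) (hy : IsIntegrallyClosed (Y.presheaf.stalk (f x))) :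
    IsIso (f.stalkMap x) := by
  have hqf : IsOpen {f.asFiber x} :=
    Scheme.Hom.quasiFiniteAt_iff_isOpen_singleton_asFiber.1 (f.quasiFiniteAt x)
  obtain ⟨U, hxU, hU⟩ := S5094.result f (SurfSeq.map_generic f hbir) hbir (f x) hy (f.asFiber x) hqf
  haveI := hU
  haveI : IsOpenImmersion ((f ⁻¹ᵁ U).ι ≫ f) := by
    rw [← morphismRestrict_ι]; infer_instance
  exact PurBir.isIso_stalkMap_of_mem f (W := f ⁻¹ᵁ U) hxU

end Birational

theorem sI_pt {Z : Scheme.{u}} {z : Z} (hz : IsClosed ({z} : Set Z)) :
    sI (pt hz) z = maximalIdeal (Z.presheaf.stalk z) :=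
  (congrArg tI (Contraction7.comap_fromSpecStalk hz)).trans (PointBlow.tI_centre _)

/-- The normalized blow-up of a closed surface point. -/
theorem exists_blowUp_step {Z : Scheme.{u}} (hZ : Nice Z) [IsIntegral Z] {z : Z} (hz : IsClosed ({z} : Set Z))
    (hd : ringKrullDim (Z.presheaf.stalk z) = 2) :
    ∃ (Z₁ : Scheme.{u}) (h : Z₁ ⟶ Z) (_ : IsIntegral Z₁), Nice Z₁ ∧ IsProper h ∧
      (∀ (X₀ : Scheme.{u}) (r : Z ⟶ X₀), Resolve.IsNormPtBlowupSeq r → Resolve.IsNormPtBlowupSeq (h ≫ r)) ∧
      IsIso (h.stalkMap (genericPoint Z₁)) ∧ BlowUp.IsEffCartierIdeal ((pt hz).comap h) ∧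
      ∀ w, h w ≠ z → IsIso (h.stalkMap w) := by
  haveI := hZ.noeth
  obtain ⟨Z', b, hb⟩ := BlowUpLib.exists_blowUp (C := pt hz)
  haveI := PointBlow.isProper_point hz hb
  have hne : genericPoint Z ≠ z := fun h => by
    have h2 : Order.coheight z = 2 :=
      WithBot.coe_eq_coe.1 (((ringKrullDim_stalk_eq_coheight z).symm.trans hd).trans (by rfl))
    have h0 : Order.coheight z = 0 := Order.coheight_eq_zero.2 fun w _ => show w ≤ z from
      h ▸ genericPoint_specializes w
    exact absurd (h2.symm.trans h0) (by decide)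
  obtain ⟨hint, -, hbiso⟩ :
      ∃ _ : IsIntegral Z', b (genericPoint Z') = genericPoint Z ∧ IsIso (b.stalkMap (genericPoint Z')) := by
    refine (Lib.BlowUpInt.isEmpty_or_birational hb).resolve_left fun hE => ?_
    haveI := PointBlow.isIso_off hz hb
    exact hE.false ((inv (b ∣_ (⟨{z}ᶜ, hz.isOpen_compl⟩ : Z.Opens))) ⟨genericPoint Z, hne⟩).1
  haveI := hint
  haveI : IsLocallyNoetherian Z' := LocallyOfFiniteType.isLocallyNoetherian b
  haveI : IsFinite (Curv2.normalizationι Z') := hZ.fin Z' b hbiso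
  have hnorm := NormCurve.isNormalScheme_normalization Z'
  haveI hint₁ : IsIntegral (Curv2.normalization Z') :=
    inferInstanceAs (IsIntegral (Z'.fromSpecStalk (genericPoint Z')).normalization)
  let ν := Curv2.normalizationι Z'
  obtain ⟨V, hV, hiso⟩ := BMLib.exists_isIso_normalizationι Z'
  haveI := hiso
  haveI : IsOpenImmersion ((ν ⁻¹ᵁ V).ι ≫ ν) := by
    rw [← morphismRestrict_ι]; infer_instance
  have hW : ((ν ⁻¹ᵁ V) : Set ↥(Curv2.normalization Z')).Nonempty := by
    obtain ⟨v, hv⟩ := hV
    exact ⟨(inv (ν ∣_ V) ⟨v, hv⟩).1, (inv (ν ∣_ V) ⟨v, hv⟩).2⟩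
  have hν : IsIso (ν.stalkMap (genericPoint (Curv2.normalization Z'))) :=
    PurBir.isIso_stalkMap_of_mem ν (PurBir.genericPoint_mem hW)
  haveI : IsLocallyNoetherian (Curv2.normalization Z') := LocallyOfFiniteType.isLocallyNoetherian (ν ≫ b)
  haveI : CompactSpace (Curv2.normalization Z') := QuasiCompact.compactSpace_of_compactSpace (ν ≫ b)
  have hgen : IsIso ((ν ≫ b).stalkMap (genericPoint (Curv2.normalization Z'))) := by
    rw [Scheme.Hom.stalkMap_comp]
    haveI := hν
    haveI : IsIso (b.stalkMap (ν (genericPoint (Curv2.normalization Z')))) := by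
      rw [SurfSeq.map_generic ν hν]; exact hbiso
    infer_instance
  refine ⟨Curv2.normalization Z', ν ≫ b, hint₁, ⟨hint₁, {}, hnorm, hZ.fin_comp (ν ≫ b) hgen, fun w => ?_⟩, inferInstance, fun X₀ r hr => ?_,
    hgen, ?_, fun w hw => ?_⟩
  · exact (dim_le (ν ≫ b) hgen w).trans (hZ.dim _)
  · rw [Category.assoc]
    exact Resolve.IsNormPtBlowupSeq.step b r z hz hb hr
  · rw [Scheme.IdealSheafData.comap_comp]
    exact isEffCartier_comap ν hν hb.1
  · haveI hbw := PointBlow.isIso_stalkMap_off hz hb (z := ν w) hw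
    have hic : IsIntegrallyClosed (Z'.presheaf.stalk (ν w)) := by
      haveI := (hZ.normal (b (ν w))).2
      exact IsIntegrallyClosed.of_equiv (asIso (b.stalkMap (ν w))).commRingCatIsoToRingEquiv
    haveI := isIso_of_finite ν hν w hic
    rw [Scheme.Hom.stalkMap_comp]
    infer_instance

end Groth.Agent.NormSeq
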