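import Mathlib
import Groth.Agent.NormSeq.Step

/-!
# Rational maps on birational models
-/

set_option autoImplicit false
set_option linter.style.haveILetI false
set_option linter.unusedSectionVars false
set_option backward.isDefEq.respectTransparency false
set_option backward.isDefEq.respectTransparency.types false
set_option maxHeartbeats 800000

universe u

open CategoryTheory CategoryTheory.Limits AlgebraicGeometry TopologicalSpace IsLocalRing

noncomputable section

namespace Groth.Agent.NormSeq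

variable {Z₀ : Scheme.{u}} [IsIntegral Z₀]

/-- A birational model of `Z₀`. -/
structure Model (Z₀ : Scheme.{u}) [IsIntegral Z₀] where
  Z : Scheme.{u}
  [integral : IsIntegral Z]
  G : Z ⟶ Z₀
  gen : G (genericPoint Z) = genericPoint Z₀
  bir : IsIso (G.stalkMap (genericPoint Z))

attribute [instance] Model.integral

namespace Model

variable (M : Model Z₀)

/-- The isomorphism of function fields. -/
def ψ : Z₀.functionField ⟶ M.Z.functionField :=
  Z₀.presheaf.stalkSpecializes (specializes_of_eq M.gen) ≫ M.G.stalkMap (genericPoint M.Z)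

instance : IsIso M.ψ := by
  haveI := M.bir
  haveI := BirNormal.isIso_stalkSpecializes_of_eq M.gen (specializes_of_eq M.gen)
  exact IsIso.comp_isIso

/-- The local ring at a point inside the function field of `Z₀`. -/
def toKHom (w : M.Z) : M.Z.presheaf.stalk w ⟶ Z₀.functionField :=
  M.Z.presheaf.stalkSpecializes (genericPoint_specializes w) ≫ inv M.ψ

theorem toK_injective (w : M.Z) : Function.Injective (M.toKHom w) := by
  exact (ConcreteCategory.bijective_of_isIso (inv M.ψ)).1.comp
    (IsFractionRing.injective (M.Z.presheaf.stalk w) M.Z.functionField)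

theorem specializes_stalkMap (w : M.Z) :
    M.G.stalkMap w ≫ M.Z.presheaf.stalkSpecializes (genericPoint_specializes w) =
      Z₀.presheaf.stalkSpecializes (genericPoint_specializes (M.G w)) ≫ M.ψ := by
  rw [← Scheme.Hom.stalkSpecializes_stalkMap M.G (genericPoint M.Z) w (genericPoint_specializes w), ψ,
    ← Category.assoc, TopCat.Presheaf.stalkSpecializes_comp]

theorem stalkMap_toK (w : M.Z) :
    M.G.stalkMap w ≫ M.toKHom w = Z₀.presheaf.stalkSpecializes (genericPoint_specializes (M.G w)) := by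
  rw [toKHom, ← Category.assoc, M.specializes_stalkMap, Category.assoc, IsIso.hom_inv_id, Category.comp_id]

/-- The generic point as a point over the function field of `Z₀`. -/
def genHom : Spec Z₀.functionField ⟶ M.Z :=
  Spec.map (inv M.ψ) ≫ M.Z.fromSpecStalk (genericPoint M.Z)

theorem spec_toK (w : M.Z) : Spec.map (M.toKHom w) ≫ M.Z.fromSpecStalk w = M.genHom := by
  rw [toKHom, Spec.map_comp, Category.assoc, Scheme.SpecMap_stalkSpecializes_fromSpecStalk, genHom]

theorem genHom_apply (p : Spec Z₀.functionField) : M.genHom p = genericPoint M.Z := by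
  have h : M.genHom p ⤳ genericPoint M.Z := by
    have : M.genHom p ∈ Set.range (M.Z.fromSpecStalk (genericPoint M.Z)) := ⟨Spec.map (inv M.ψ) p, rfl⟩
    rwa [Scheme.range_fromSpecStalk] at this
  exact (h.antisymm (genericPoint_specializes _)).eq

theorem genHom_G : M.genHom ≫ M.G = Z₀.fromSpecStalk (genericPoint Z₀) := by
  rw [← M.spec_toK (genericPoint M.Z), Category.assoc, ← Scheme.SpecMap_stalkMap_fromSpecStalk,
    ← Spec.map_comp_assoc, M.stalkMap_toK, Scheme.SpecMap_stalkSpecializes_fromSpecStalk]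

/-- A birational morphism into a model gives a model. -/
def comp {Z' : Scheme.{u}} [IsIntegral Z'] (h : Z' ⟶ M.Z) (hgen : h (genericPoint Z') = genericPoint M.Z)
    (hbir : IsIso (h.stalkMap (genericPoint Z'))) : Model Z₀ where
  Z := Z'
  G := h ≫ M.G
  gen := by rw [Scheme.Hom.comp_apply, hgen, M.gen]
  bir := by
    rw [Scheme.Hom.stalkMap_comp]
    haveI := hbir
    haveI : IsIso (M.G.stalkMap (h (genericPoint Z'))) := by rw [hgen]; exact M.bir
    infer_instance

theorem comp_ψ {Z' : Scheme.{u}} [IsIntegral Z'] (h : Z' ⟶ M.Z) (hgen : h (genericPoint Z') = genericPoint M.Z)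
    (hbir : IsIso (h.stalkMap (genericPoint Z'))) :
    (M.comp h hgen hbir).ψ = M.ψ ≫ M.Z.presheaf.stalkSpecializes (specializes_of_eq hgen) ≫
      h.stalkMap (genericPoint Z') := by
  show Z₀.presheaf.stalkSpecializes _ ≫ (h ≫ M.G).stalkMap (genericPoint Z') = _
  rw [Scheme.Hom.stalkMap_comp, ψ, Category.assoc]
  erw [← Scheme.Hom.stalkSpecializes_stalkMap_assoc M.G (h (genericPoint Z')) (genericPoint M.Z)
    (specializes_of_eq hgen)]
  rw [← Category.assoc (Z₀.presheaf.stalkSpecializes _) (Z₀.presheaf.stalkSpecializes _),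
    TopCat.Presheaf.stalkSpecializes_comp]

theorem comp_toK {Z' : Scheme.{u}} [IsIntegral Z'] (h : Z' ⟶ M.Z) (hgen : h (genericPoint Z') = genericPoint M.Z)
    (hbir : IsIso (h.stalkMap (genericPoint Z'))) (w : Z') :
    h.stalkMap w ≫ (M.comp h hgen hbir).toKHom w = M.toKHom (h w) := by
  rw [← cancel_mono (M.comp h hgen hbir).ψ]
  simp only [toKHom, Category.assoc, IsIso.inv_hom_id, Category.comp_id]
  rw [M.comp_ψ h hgen hbir, IsIso.inv_hom_id_assoc]
  erw [← Scheme.Hom.stalkSpecializes_stalkMap h (genericPoint Z') w (genericPoint_specializes w)]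
  rw [← Category.assoc, TopCat.Presheaf.stalkSpecializes_comp]

theorem comp_genHom {Z' : Scheme.{u}} [IsIntegral Z'] (h : Z' ⟶ M.Z) (hgen : h (genericPoint Z') = genericPoint M.Z)
    (hbir : IsIso (h.stalkMap (genericPoint Z'))) : (M.comp h hgen hbir).genHom ≫ h = M.genHom := by
  rw [← (M.comp h hgen hbir).spec_toK (genericPoint Z'), Category.assoc, ← M.spec_toK (h (genericPoint Z')),
    ← M.comp_toK h hgen hbir (genericPoint Z'), Spec.map_comp, Category.assoc, Scheme.SpecMap_stalkMap_fromSpecStalk]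
  rfl

variable {P : Scheme.{u}} (q : P ⟶ Z₀) (σ₀ : Spec Z₀.functionField ⟶ P)

/-- The rational map is defined at a point of a model. -/
def Def (w : M.Z) : Prop :=
  ∃ σ : Spec (M.Z.presheaf.stalk w) ⟶ P, σ ≫ q = M.Z.fromSpecStalk w ≫ M.G ∧ Spec.map (M.toKHom w) ≫ σ = σ₀

theorem def_comp {Z' : Scheme.{u}} [IsIntegral Z'] (h : Z' ⟶ M.Z) (hgen : h (genericPoint Z') = genericPoint M.Z)
    (hbir : IsIso (h.stalkMap (genericPoint Z'))) (w : Z') (hw : M.Def q σ₀ (h w)) :
    (M.comp h hgen hbir).Def q σ₀ w := by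
  obtain ⟨σ, h1, h2⟩ := hw
  refine ⟨Spec.map (h.stalkMap w) ≫ σ, ?_, ?_⟩
  · rw [Category.assoc, h1, Scheme.SpecMap_stalkMap_fromSpecStalk_assoc]
    rfl
  · rw [← Category.assoc, ← Spec.map_comp, M.comp_toK h hgen hbir w]
    exact h2

variable [LocallyOfFiniteType q] [IsLocallyNoetherian M.Z]

/-- Near a point of definition the rational map is a morphism. -/
theorem exists_local (w : M.Z) (hw : M.Def q σ₀ w) :
    ∃ (W : M.Z.Opens) (t : (W : Scheme.{u}) ⟶ P), w ∈ W ∧ t ≫ q = W.ι ≫ M.G ∧
      ∀ (g : Spec Z₀.functionField ⟶ W), g ≫ W.ι = M.genHom → g ≫ t = σ₀ := by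
  obtain ⟨σ, h1, h2⟩ := hw
  obtain ⟨W, hwW, t, hσ, ht⟩ := spread_out_of_isGermInjective' M.G q σ h1
  refine ⟨W, t, hwW, ht, fun g hg => ?_⟩
  rw [show g = Spec.map (M.toKHom w) ≫ W.fromSpecStalkOfMem w hwW by
    rw [← cancel_mono W.ι, Category.assoc, Scheme.Opens.fromSpecStalkOfMem_ι, hg, M.spec_toK],
    Category.assoc, ← hσ]
  exact h2

theorem def_of_local (W : M.Z.Opens) (t : (W : Scheme.{u}) ⟶ P) (ht : t ≫ q = W.ι ≫ M.G)
    (htg : ∀ (g : Spec Z₀.functionField ⟶ W), g ≫ W.ι = M.genHom → g ≫ t = σ₀) (w : M.Z) (hw : w ∈ W) :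
    M.Def q σ₀ w := by
  refine ⟨W.fromSpecStalkOfMem w hw ≫ t, ?_, ?_⟩
  · rw [Category.assoc, ht, Scheme.Opens.fromSpecStalkOfMem_ι_assoc]
  · rw [← Category.assoc]
    exact htg _ (by rw [Category.assoc, Scheme.Opens.fromSpecStalkOfMem_ι, M.spec_toK])

theorem isClosed_undef : IsClosed {w : M.Z | ¬ M.Def q σ₀ w} := by
  rw [← isOpen_compl_iff, isOpen_iff_forall_mem_open]
  intro w hw
  rw [Set.mem_compl_iff, Set.mem_setOf_eq, not_not] at hw
  obtain ⟨W, t, hwW, ht, htg⟩ := M.exists_local q σ₀ w hw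
  exact ⟨W, fun w' hw' h => h (M.def_of_local q σ₀ W t ht htg w' hw'), W.isOpen, hwW⟩

/-- At points with valuation rings as local rings the rational map is defined. -/
theorem def_of_valuationRing [IsProper q] (hσ₀ : σ₀ ≫ q = Z₀.fromSpecStalk (genericPoint Z₀)) (w : M.Z)
    (hv : ValuationRing (M.Z.presheaf.stalk w)) : M.Def q σ₀ w := by
  haveI := hv
  have hval : ValuativeCriterion.Existence q := by
    have h : IsProper q := ‹_›
    rw [IsProper.eq_valuativeCriterion] at h
    exact h.1.1.1.existence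
  let a : M.Z.presheaf.stalk w →+* Z₀.functionField := (M.toKHom w).hom
  letI := a.toAlgebra
  haveI : IsFractionRing (M.Z.presheaf.stalk w) Z₀.functionField := by
    haveI : FaithfulSMul (M.Z.presheaf.stalk w) Z₀.functionField :=
      (faithfulSMul_iff_algebraMap_injective _ _).2 (M.toK_injective w)
    refine IsFractionRing.of_field _ _ fun z => ?_
    obtain ⟨r, s, -, hrs⟩ := IsFractionRing.div_surjective (A := M.Z.presheaf.stalk w) (M.ψ z)
    refine ⟨r, s, ?_⟩
    show z = a r / a s
    apply (ConcreteCategory.bijective_of_isIso M.ψ).1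
    rw [map_div₀]
    have e : ∀ b, M.ψ (a b) = algebraMap (M.Z.presheaf.stalk w) M.Z.functionField b := fun b => by
      show (M.toKHom w ≫ M.ψ) b = _
      rw [toKHom, Category.assoc, IsIso.inv_hom_id, Category.comp_id]
      rfl
    rw [e, e, hrs]
  obtain ⟨⟨σ, hσ1, hσ2⟩⟩ := (hval
    { R := M.Z.presheaf.stalk w
      K := Z₀.functionField
      i₁ := σ₀
      i₂ := M.Z.fromSpecStalk w ≫ M.G
      commSq := ⟨by
        show σ₀ ≫ q = Spec.map (M.toKHom w) ≫ M.Z.fromSpecStalk w ≫ M.G
        rw [hσ₀, ← Category.assoc, M.spec_toK, M.genHom_G]⟩ }).exists_lift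
  exact ⟨σ, hσ2, hσ1⟩

/-- A rational map defined everywhere is a morphism. -/
theorem exists_morphism [IsSeparated q] (h : ∀ w, M.Def q σ₀ w) :
    ∃ t : M.Z ⟶ P, t ≫ q = M.G ∧ M.genHom ≫ t = σ₀ := by
  choose W t hW ht htg using fun w => M.exists_local q σ₀ w (h w)
  let 𝒰 := M.Z.openCoverOfIsOpenCover W (eq_top_iff.2 fun z _ => Opens.mem_iSup.2 ⟨z, hW z⟩)
  have hrange : ∀ w, Set.range M.genHom ⊆ Set.range (W w).ι := by
    rintro w _ ⟨p, rfl⟩
    rw [Scheme.Opens.range_ι, M.genHom_apply p]
    exact (genericPoint_specializes w).mem_open (W w).isOpen (hW w)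
  have compat : ∀ a c, pullback.fst (W a).ι (W c).ι ≫ t a = pullback.snd (W a).ι (W c).ι ≫ t c := by
    intro a c
    let i := pullback.fst (W a).ι (W c).ι ≫ (W a).ι
    let l := pullback.lift (IsOpenImmersion.lift (W a).ι M.genHom (hrange a))
      (IsOpenImmersion.lift (W c).ι M.genHom (hrange c))
      (by rw [IsOpenImmersion.lift_fac, IsOpenImmersion.lift_fac])
    haveI : Nonempty ↥(pullback (W a).ι (W c).ι) := ⟨l (closedPoint Z₀.functionField)⟩
    haveI : IsIntegral (pullback (W a).ι (W c).ι) := isIntegral_of_isOpenImmersion i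
    haveI : IsDominant l := by
      refine ⟨fun z => closure_mono (Set.singleton_subset_iff.2 (Set.mem_range_self (f := (l : _ → _))
        (closedPoint Z₀.functionField))) ?_⟩
      have hl : l (closedPoint Z₀.functionField) = genericPoint ↥(pullback (W a).ι (W c).ι) := by
        apply i.isOpenEmbedding.injective
        rw [genericPoint_eq_of_isOpenImmersion i, ← M.genHom_apply (closedPoint Z₀.functionField),
          ← Scheme.Hom.comp_apply]
        simp only [i, l, pullback.lift_fst_assoc, IsOpenImmersion.lift_fac]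
      rw [hl, (genericPoint_spec _).def]
      trivial
    refine ext_of_isDominant_of_isSeparated q ?_ l ?_
    · rw [Category.assoc, ht, Category.assoc, ht, ← Category.assoc, pullback.condition, Category.assoc]
    · rw [pullback.lift_fst_assoc, pullback.lift_snd_assoc,
        htg a _ (IsOpenImmersion.lift_fac _ _ _), htg c _ (IsOpenImmersion.lift_fac _ _ _)]
  let T : M.Z ⟶ P := 𝒰.glueMorphisms t compat
  refine ⟨T, Scheme.Cover.hom_ext 𝒰 _ _ fun w => by rw [Scheme.Cover.ι_glueMorphisms_assoc]; exact ht w, ?_⟩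
  rw [← IsOpenImmersion.lift_fac (W (genericPoint M.Z)).ι M.genHom (hrange _), Category.assoc,
    show (W (genericPoint M.Z)).ι ≫ T = t (genericPoint M.Z) from Scheme.Cover.ι_glueMorphisms 𝒰 _ _ _]
  exact htg _ _ (IsOpenImmersion.lift_fac _ _ _)

end Model

end Groth.Agent.NormSeq
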