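import Mathlib
import Groth.Agent.NormSeq.Model
import Groth.Agent.NormSeq.Step
import Groth.Agent.NormCurve.Nagata
import Groth.Agent.CplNormFinite.Scheme
import Groth.Agent.CplNormFinite.Descend
import Groth.Agent.GeomIrrSpread.SmoothNeutral

/-!
# Rings with finite normalisations of birational algebras of finite type
-/

set_option autoImplicit false
set_option linter.style.haveILetI false
set_option linter.unusedSectionVars false
set_option backward.isDefEq.respectTransparency false
set_option backward.isDefEq.respectTransparency.types false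
set_option maxHeartbeats 400000

universe u

open CategoryTheory CategoryTheory.Limits AlgebraicGeometry TopologicalSpace IsLocalRing Polynomial
open scoped TensorProduct

noncomputable section

namespace Groth.Agent.NormSeq

/-- Finitely generated subalgebras of the fraction field have finite integral closure. -/
def FinBir (R : Type u) [CommRing R] : Prop :=
  ∀ (K : Type u) [Field K] [Algebra R K] [IsFractionRing R K] (S : Finset K),
    Module.Finite (Algebra.adjoin R (S : Set K)) (integralClosure (Algebra.adjoin R (S : Set K)) K)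

variable {R : Type u} [CommRing R]

theorem isFractionRing_adjoin {K : Type u} [Field K] [Algebra R K] [IsFractionRing R K] (S : Set K) :
    IsFractionRing (Algebra.adjoin R S) K := by
  refine IsFractionRing.of_field _ _ fun z => ?_
  obtain ⟨a, b, -, hab⟩ := IsFractionRing.div_surjective (A := R) z
  exact ⟨algebraMap R _ a, algebraMap R _ b, hab.symm⟩

theorem finBir_of_isNagata [IsDomain R] (hN : CAlg.IsNagata R) : FinBir R := by
  intro K _ _ _ S
  haveI := isFractionRing_adjoin (R := R) (S : Set K)
  haveI : Algebra.FiniteType R (Algebra.adjoin R (S : Set K)) :=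
    (Subalgebra.fg_iff_finiteType _).1 (Subalgebra.fg_adjoin_finset S)
  exact NormCurve.finite_integralClosure_of_nagata (CAlgOdd.NagataFT.isNagata_of_finiteType hN _) K

theorem finBir_of_isReduced_cpl [IsLocalRing R] [IsNoetherianRing R] [IsDomain R] [IsReduced (EGA4.Cpl R)] :
    FinBir R := by
  intro K _ _ _ S
  haveI := isFractionRing_adjoin (R := R) (S : Set K)
  haveI : Algebra.FiniteType R (Algebra.adjoin R (S : Set K)) :=
    (Subalgebra.fg_iff_finiteType _).1 (Subalgebra.fg_adjoin_finset S)
  refine CplNormFinite.isN1 R (Algebra.adjoin R (S : Set K)) K ?_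
  letI : Algebra (EGA4.Cpl R ⊗[R] R) (EGA4.Cpl R ⊗[R] K) :=
    (Algebra.TensorProduct.map (AlgHom.id R (EGA4.Cpl R)) (IsScalarTower.toAlgHom R R K)).toAlgebra
  haveI := CplNormFinite.isLocalization_map' R (EGA4.Cpl R) R K (nonZeroDivisors R)
  haveI : IsReduced (EGA4.Cpl R ⊗[R] R) :=
    isReduced_of_injective (Algebra.TensorProduct.rid R R (EGA4.Cpl R))
      (Algebra.TensorProduct.rid R R (EGA4.Cpl R)).injective
  exact isReduced_localizationPreserves ((nonZeroDivisors R).map
    (Algebra.TensorProduct.includeRight (R := R) (A := EGA4.Cpl R) (B := R))) (EGA4.Cpl R ⊗[R] K) inferInstance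

/-- Scaling an integral equation over a subalgebra. -/
theorem isIntegral_of_scale {K : Type u} [Field K] {B : Subring K} {s z : K} (hs : s ∈ B) {P : K[X]}
    (hP : P.Monic) (hz : P.eval z = 0) (h : ∀ i < P.natDegree, P.coeff i * s ∈ B) : IsIntegral B (s * z) := by
  have hmem : (↑(P.scaleRoots s).coeffs : Set K) ⊆ B := by
    intro c hc
    obtain ⟨i, hi, rfl⟩ := Polynomial.mem_coeffs_iff.1 hc
    rw [Polynomial.mem_support_iff, Polynomial.coeff_scaleRoots] at hi
    rw [Polynomial.coeff_scaleRoots]
    rcases (Polynomial.le_natDegree_of_ne_zero (left_ne_zero_of_mul hi)).lt_or_eq with hlt | rfl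
    · obtain ⟨e, he⟩ := Nat.exists_eq_succ_of_ne_zero (Nat.sub_ne_zero_of_lt hlt)
      rw [he, pow_succ', ← mul_assoc]
      exact mul_mem (h i hlt) (pow_mem hs e)
    · simp [hP.coeff_natDegree, one_mem]
  refine ⟨(P.scaleRoots s).toSubring B hmem,
    (Polynomial.monic_toSubring _ _ hmem).2 ((Polynomial.monic_scaleRoots_iff s).2 hP), ?_⟩
  rw [← Polynomial.eval_map]
  show (Polynomial.map B.subtype _).eval (s * z) = 0
  rw [Polynomial.map_toSubring]
  have h2 := Polynomial.scaleRoots_eval₂_eq_zero (RingHom.id K) (s := s) (p := P) (r := z) (by rwa [Polynomial.eval₂_id])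
  simpa [Polynomial.eval₂_id] using h2

/-- The property passes to birational localisations of finitely generated algebras. -/
theorem finBir_of_localization (h : FinBir R) {R' : Type u} [CommRing R'] (φ : R →+* R')
    (hφ : ∀ (K : Type u) [Field K] [Algebra R' K] [IsFractionRing R' K],
      letI := ((algebraMap R' K).comp φ).toAlgebra
      IsFractionRing R K)
    (T : Finset R') (hT : ∀ r : R', ∃ p s : R', p ∈ Subring.closure (Set.range φ ∪ T) ∧
      s ∈ Subring.closure (Set.range φ ∪ T) ∧ IsUnit s ∧ r * s = p) : FinBir R' := by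
  classical
  intro K _ _ _ S
  letI : Algebra R K := ((algebraMap R' K).comp φ).toAlgebra
  haveI := hφ K
  let S₀ : Finset K := S ∪ T.image (algebraMap R' K)
  let B₀ : Subalgebra R K := Algebra.adjoin R (S₀ : Set K)
  let B' : Subalgebra R' K := Algebra.adjoin R' (S : Set K)
  haveI hfin : Module.Finite B₀ (integralClosure B₀ K) := h K S₀
  have hcl : ∀ p ∈ Subring.closure (Set.range φ ∪ (T : Set R')), algebraMap R' K p ∈ B₀ := by
    intro p hp
    induction hp using Subring.closure_induction with
    | mem x hx =>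
      rcases hx with ⟨a, rfl⟩ | hx
      · exact B₀.algebraMap_mem a
      · exact Algebra.subset_adjoin (Finset.mem_union_right _ (Finset.mem_image_of_mem _ hx))
    | zero => rw [map_zero]; exact zero_mem _
    | one => rw [map_one]; exact one_mem _
    | add x y _ _ hx hy => rw [map_add]; exact add_mem hx hy
    | neg x _ hx => rw [map_neg]; exact neg_mem hx
    | mul x y _ _ hx hy => rw [map_mul]; exact mul_mem hx hy
  have hle : ∀ b ∈ B₀, b ∈ B' := by
    intro b hb
    induction hb using Algebra.adjoin_induction with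
    | mem x hx =>
      rcases Finset.mem_union.1 hx with hx | hx
      · exact Algebra.subset_adjoin hx
      · obtain ⟨t, -, rfl⟩ := Finset.mem_image.1 hx
        exact B'.algebraMap_mem t
    | algebraMap a => exact B'.algebraMap_mem (φ a)
    | add x y _ _ hx hy => exact add_mem hx hy
    | mul x y _ _ hx hy => exact mul_mem hx hy
  have hloc : ∀ b ∈ B', ∃ s : R', IsUnit s ∧ algebraMap R' K s ∈ B₀ ∧ b * algebraMap R' K s ∈ B₀ := by
    intro b hb
    induction hb using Algebra.adjoin_induction with
    | mem x hx =>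
      exact ⟨1, isUnit_one, by rw [map_one]; exact one_mem _,
        by rw [map_one, mul_one]; exact Algebra.subset_adjoin (Finset.mem_union_left _ hx)⟩
    | algebraMap r =>
      obtain ⟨p, s, hp, hs, hu, hrs⟩ := hT r
      exact ⟨s, hu, hcl s hs, by rw [← map_mul, hrs]; exact hcl p hp⟩
    | add x y _ _ hx hy =>
      obtain ⟨s, hu, hs, hxs⟩ := hx
      obtain ⟨t, hv, ht, hyt⟩ := hy
      refine ⟨s * t, hu.mul hv, by rw [map_mul]; exact mul_mem hs ht, ?_⟩
      rw [map_mul, add_mul, ← mul_assoc x, mul_comm (algebraMap R' K s) (algebraMap R' K t), ← mul_assoc y]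
      exact add_mem (mul_mem hxs ht) (mul_mem hyt hs)
    | mul x y _ _ hx hy =>
      obtain ⟨s, hu, hs, hxs⟩ := hx
      obtain ⟨t, hv, ht, hyt⟩ := hy
      refine ⟨s * t, hu.mul hv, by rw [map_mul]; exact mul_mem hs ht, ?_⟩
      rw [map_mul, mul_mul_mul_comm]
      exact mul_mem hxs hyt
  -- a common denominator
  have hden : ∀ z : K, IsIntegral B' z → ∃ s : R', IsUnit s ∧ IsIntegral B₀.toSubring (algebraMap R' K s * z) := by
    rintro z ⟨p, hp, hpz⟩
    let P : K[X] := p.map (algebraMap B' K)
    choose s hu hs hps using fun i => hloc (P.coeff i) (by rw [Polynomial.coeff_map]; exact (p.coeff i).2)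
    refine ⟨∏ i ∈ Finset.range P.natDegree, s i, IsUnit.prod_iff.2 fun i _ => hu i, ?_⟩
    refine isIntegral_of_scale ?_ (hp.map _) (by rw [Polynomial.eval_map]; exact hpz) fun i hi => ?_
    · rw [map_prod]
      exact prod_mem fun i _ => hs i
    · rw [← Finset.mul_prod_erase _ _ (Finset.mem_range.2 hi), map_mul, map_prod, ← mul_assoc]
      exact mul_mem (hps i) (prod_mem fun j _ => hs j)
  obtain ⟨G, hG⟩ := hfin.fg_top
  let incl : integralClosure B₀ K → integralClosure B' K := fun x => ⟨x.1, by
    obtain ⟨p, hp, hpx⟩ := x.2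
    let j : B₀ →+* B' := (B₀.val : B₀ →+* K).codRestrict B'.toSubring fun b => hle b b.2
    exact ⟨p.map j, hp.map _, by rw [Polynomial.eval₂_map]; exact hpx⟩⟩
  refine ⟨⟨G.image incl, eq_top_iff.2 fun y _ => ?_⟩⟩
  obtain ⟨s, hu, hsy⟩ := hden y.1 y.2
  obtain ⟨v, hv⟩ := hu.exists_right_inv
  have hsy' : IsIntegral B₀ (algebraMap R' K s * (y : K)) := hsy
  have key : ∀ x : integralClosure B₀ K, x ∈ Submodule.span B₀ (G : Set (integralClosure B₀ K)) →
      incl x ∈ Submodule.span B' (G.image incl : Set (integralClosure B' K)) := by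
    intro x hx
    induction hx using Submodule.span_induction with
    | mem x hx => exact Submodule.subset_span (Finset.mem_image_of_mem _ hx)
    | zero => exact (show incl 0 = 0 from rfl) ▸ zero_mem _
    | add x x' _ _ hx hx' => exact (show incl (x + x') = incl x + incl x' from rfl) ▸ add_mem hx hx'
    | smul b x _ hx =>
      rw [show incl (b • x) = (⟨b.1, hle b b.2⟩ : B') • incl x from rfl]
      exact Submodule.smul_mem _ _ hx
  have h1 := key ⟨_, hsy'⟩ (hG ▸ Submodule.mem_top)
  have h2 : y = (⟨algebraMap R' K v, B'.algebraMap_mem v⟩ : B') • incl ⟨_, hsy'⟩ := Subtype.ext (by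
    show (y : K) = algebraMap R' K v * (algebraMap R' K s * y)
    rw [← mul_assoc, ← map_mul, mul_comm v s, hv, map_one, one_mul])
  rw [h2]
  exact Submodule.smul_mem _ _ h1

end Groth.Agent.NormSeq
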