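import Mathlib
import Groth.Agent.NormSeq.Step

/-!
# Normalized blow-ups of finitely many closed points
-/

set_option autoImplicit false
set_option linter.style.haveILetI false
set_option linter.unusedSectionVars false
set_option backward.isDefEq.respectTransparency false
set_option backward.isDefEq.respectTransparency.types false
set_option maxHeartbeats 800000

universe u

open CategoryTheory CategoryTheory.Limits AlgebraicGeometry TopologicalSpace IsLocalRing
open Groth.Agent.H23.StalkIdeal
open Groth.Agent.PointBlow (pt)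

noncomputable section

namespace Groth.Agent.NormSeq

theorem exists_round {Z : Scheme.{u}} (hZ : Nice Z) [IsIntegral Z] (s : Finset Z)
    (hs : ∀ t ∈ s, IsClosed ({t} : Set Z) ∧ ringKrullDim (Z.presheaf.stalk t) = 2) :
    ∃ (Z' : Scheme.{u}) (h : Z' ⟶ Z) (_ : IsIntegral Z'), Nice Z' ∧ IsProper h ∧
      (∀ (X₀ : Scheme.{u}) (r : Z ⟶ X₀), Resolve.IsNormPtBlowupSeq r → Resolve.IsNormPtBlowupSeq (h ≫ r)) ∧
      IsIso (h.stalkMap (genericPoint Z')) ∧
      ∀ t ∈ s, ∀ ht : IsClosed ({t} : Set Z), BlowUp.IsEffCartierIdeal ((pt ht).comap h) := by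
  classical
  induction hn : s.card using Nat.strong_induction_on generalizing Z with
  | _ n ih => ?_
  rcases s.eq_empty_or_nonempty with rfl | ⟨z, hzs⟩
  · refine ⟨Z, 𝟙 Z, inferInstance, hZ, inferInstance, fun X₀ r hr => by rwa [Category.id_comp], ?_,
      fun t ht => absurd ht (Finset.notMem_empty t)⟩
    infer_instance
  haveI := hZ.noeth
  obtain ⟨hz, hd⟩ := hs z hzs
  obtain ⟨Z₁, h, hint, hZ₁, hP, hseq, hbir, hcar, hoff⟩ := exists_blowUp_step hZ hz hd
  haveI := hP
  haveI := hint
  haveI := hZ₁.noeth
  have hsurj : ∀ t : Z, ∃ w, h w = t := fun t => by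
    have := h.isClosedMap.isClosed_range.closure_subset_iff.2
      (Set.singleton_subset_iff.2 ⟨_, SurfSeq.map_generic h hbir⟩)
    exact this (by rw [(genericPoint_spec Z).def]; trivial)
  choose l hl using hsurj
  have huniq : ∀ t, t ≠ z → ∀ w, h w = t → w = l t := fun t ht w hw =>
    SurfSeq.eq_of_isIso h hbir ((hl t).trans hw.symm) (hoff _ (by rw [hl]; exact ht))
  have hdim : ∀ t ∈ s.erase z, IsClosed ({l t} : Set Z₁) ∧ ringKrullDim (Z₁.presheaf.stalk (l t)) = 2 := by
    intro t ht
    obtain ⟨htz, hts⟩ := Finset.mem_erase.1 ht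
    refine ⟨?_, ?_⟩
    · convert (hs t hts).1.preimage h.continuous using 1
      ext w
      exact ⟨fun hw => by rw [Set.mem_preimage, Set.mem_singleton_iff, hw, hl], fun hw => huniq t htz w hw⟩
    · haveI := hoff (l t) (by rw [hl]; exact htz)
      refine (ringKrullDim_eq_of_ringEquiv (asIso (h.stalkMap (l t))).commRingCatIsoToRingEquiv).symm.trans ?_
      rw [hl]
      exact (hs t hts).2
  obtain ⟨Z', g, hint', hZ', hP', hseq', hbir', hcar'⟩ := ih ((s.erase z).image l).card
    (hn ▸ Finset.card_image_le.trans_lt (Finset.card_erase_lt_of_mem hzs)) hZ₁ ((s.erase z).image l)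
    (fun w hw => by
      obtain ⟨t, ht, rfl⟩ := Finset.mem_image.1 hw
      exact hdim t ht) rfl
  haveI := hint'
  haveI := hP'
  haveI := hZ'.noeth
  refine ⟨Z', g ≫ h, hint', hZ', inferInstance, fun X₀ r hr => by
    rw [Category.assoc]; exact hseq' X₀ _ (hseq X₀ r hr), ?_, fun t hts ht => ?_⟩
  · rw [Scheme.Hom.stalkMap_comp]
    haveI := hbir'
    haveI : IsIso (h.stalkMap (g (genericPoint Z'))) := by rw [SurfSeq.map_generic g hbir']; exact hbir
    infer_instance
  · rw [Scheme.IdealSheafData.comap_comp]
    by_cases htz : t = z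
    · subst htz
      exact isEffCartier_comap g hbir' hcar
    · have hte := Finset.mem_erase.2 ⟨htz, hts⟩
      have hlc := (hdim t hte).1
      have heq : (pt ht).comap h = pt hlc := by
        refine ext_sI fun w => ?_
        by_cases hw : h w = t
        · obtain rfl := huniq t htz w hw
          haveI := hoff (l t) (by rw [hl]; exact htz)
          have key : ∀ y : Z, y = t → sI (pt ht) y = maximalIdeal (Z.presheaf.stalk y) := by
            rintro y rfl; exact sI_pt ht
          rw [sI_comap, key _ hw, sI_pt hlc]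
          exact IsLocalRing.map_ringEquiv_maximalIdeal (asIso (h.stalkMap (l t))).commRingCatIsoToRingEquiv
        · rw [PointBlow.sI_eq_top, PointBlow.sI_eq_top]
          · exact fun hmem => hw (((PointBlow.mem_support_pt hlc w).1 hmem) ▸ hl t)
          · exact fun hmem => hw ((PointBlow.mem_support_exc ht w).1 hmem)
      rw [heq]
      exact hcar' (l t) (Finset.mem_image_of_mem _ hte) hlc

end Groth.Agent.NormSeq
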