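import Mathlib
import Groth.Agent.KrullAki.Basic

/-!
# The union of an infinite chain of normalized quadratic transforms is a valuation ring
-/

set_option autoImplicit false
set_option linter.style.haveILetI false
set_option linter.unusedSectionVars false
set_option maxHeartbeats 400000

universe u

open Polynomial IsLocalRing

namespace Groth.Agent.NormSeq

variable {K : Type u} [Field K] {R : ℕ → Subring K}

/-- A nonzero polynomial modulo the maximal ideal does not vanish at `t` if neither `t` nor `t⁻¹`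
lies in the normal local ring. -/
theorem eq_zero_of_aeval (S : Subring K) [IsLocalRing S] (hint : ∀ x : K, IsIntegral S x → x ∈ S) {t : K}
    (ht : t ∉ S) (ht' : t⁻¹ ∉ S) (d : ℕ) : ∀ q : S[X], q.natDegree ≤ d → aeval t q = 0 →
      ∀ i, q.coeff i ∈ maximalIdeal S := by
  induction d with
  | zero =>
    intro q hd hq i
    rw [eq_C_of_natDegree_le_zero hd] at hq ⊢
    rw [aeval_C] at hq
    have h0 : q.coeff 0 = 0 := Subtype.ext hq
    rw [h0, map_zero, coeff_zero]
    exact zero_mem _
  | succ d ih =>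
    intro q hd hq
    have hmem : (q.coeff (d + 1) : K) * t ∈ S := by
      refine hint _ ?_
      rcases hd.lt_or_eq with hlt | heq
      · rw [coeff_eq_zero_of_natDegree_lt hlt, ZeroMemClass.coe_zero, zero_mul]
        exact isIntegral_zero
      · have h := isIntegral_leadingCoeff_smul q t hq
        rwa [leadingCoeff, heq, Algebra.smul_def] at h
    let c := q.coeff (d + 1)
    let e : S := ⟨(c : K) * t, hmem⟩
    let q' : S[X] := q - C c * X ^ (d + 1) + C e * X ^ d
    have hq' : aeval t q' = 0 := by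
      rw [map_add, map_sub, hq, map_mul, map_mul, map_pow, map_pow, aeval_C, aeval_C, aeval_X]
      show 0 - (c : K) * t ^ (d + 1) + (c : K) * t * t ^ d = 0
      ring
    have hd' : q'.natDegree ≤ d := by
      refine natDegree_le_iff_coeff_eq_zero.2 fun n hn => ?_
      rw [coeff_add, coeff_sub, coeff_C_mul_X_pow, coeff_C_mul_X_pow, if_neg (show n ≠ d by omega), add_zero]
      rcases eq_or_lt_of_le (show d + 1 ≤ n from hn) with rfl | hlt
      · rw [if_pos rfl, sub_self]
      · rw [if_neg (show n ≠ d + 1 by omega), sub_zero, coeff_eq_zero_of_natDegree_lt (lt_of_le_of_lt hd hlt)]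
    have hco := ih q' hd' hq'
    have hc : c ∈ maximalIdeal S := by
      by_contra h
      obtain ⟨u, hu⟩ := (not_not.1 fun h' => h ((mem_maximalIdeal c).2 h') : IsUnit c)
      refine ht ?_
      have h1 : ((↑u⁻¹ : S) : K) * (c : K) = 1 := by
        rw [← hu]
        exact_mod_cast congrArg Subtype.val u.inv_mul
      rw [show t = ((↑u⁻¹ : S) : K) * ((c : K) * t) by rw [← mul_assoc, h1, one_mul]]
      exact mul_mem (Subtype.mem _) hmem
    have he : e ∈ maximalIdeal S := by
      by_contra h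
      obtain ⟨u, hu⟩ := (not_not.1 fun h' => h ((mem_maximalIdeal e).2 h') : IsUnit e)
      refine ht' ?_
      have h1 : ((↑u⁻¹ : S) : K) * ((c : K) * t) = 1 := by
        rw [show (c : K) * t = ((u : S) : K) by rw [hu]]
        exact_mod_cast congrArg Subtype.val u.inv_mul
      rw [show t⁻¹ = ((↑u⁻¹ : S) : K) * (c : K) from inv_eq_of_mul_eq_one_left (by rw [mul_assoc]; exact h1)]
      exact mul_mem (Subtype.mem _) (Subtype.mem _)
    intro i
    have hi := hco i
    rw [coeff_add, coeff_sub, coeff_C_mul_X_pow, coeff_C_mul_X_pow] at hi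
    by_cases h1 : i = d + 1
    · subst h1; exact hc
    · rw [if_neg h1, sub_zero] at hi
      have := sub_mem hi (show (if i = d then e else 0) ∈ maximalIdeal S by split <;> simp [he])
      rwa [add_sub_cancel_right] at this

variable [∀ n, IsLocalRing (R n)] (hmono : Monotone R) (t : K)

/-- Polynomials with nonzero reduction. -/
def Prim {n : ℕ} (q : (R n)[X]) : Prop := q.map (residue (R n)) ≠ 0

theorem prim_iff {n : ℕ} (q : (R n)[X]) : Prim q ↔ ∃ i, IsUnit (q.coeff i) := by
  rw [Prim, Ne, Polynomial.ext_iff, not_forall]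
  refine exists_congr fun i => ?_
  rw [coeff_map, coeff_zero]
  exact IsLocalRing.residue_ne_zero_iff_isUnit _

theorem Prim.mul {n : ℕ} {p q : (R n)[X]} (hp : Prim p) (hq : Prim q) : Prim (p * q) := by
  rw [Prim, Polynomial.map_mul]; exact mul_ne_zero hp hq

include hmono in
theorem lift_poly {n m : ℕ} (h : n ≤ m) (q : (R n)[X]) :
    ∃ q' : (R m)[X], aeval t q' = aeval t q ∧ (Prim q → Prim q') := by
  refine ⟨q.map (Subring.inclusion (hmono h)), ?_, fun hq => ?_⟩
  · rw [aeval_def, eval₂_map]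
    rfl
  · obtain ⟨i, hi⟩ := (prim_iff q).1 hq
    exact (prim_iff _).2 ⟨i, by rw [coeff_map]; exact hi.map _⟩

variable (hint : ∀ n, ∀ x : K, IsIntegral (R n) x → x ∈ R n) (ht : ∀ n, t ∉ R n ∧ t⁻¹ ∉ R n)

include hint ht in
theorem Prim.aeval_ne_zero {n : ℕ} {q : (R n)[X]} (hq : Prim q) : aeval t q ≠ 0 := by
  intro h
  obtain ⟨i, hi⟩ := (prim_iff q).1 hq
  exact (mem_maximalIdeal _).1 (eq_zero_of_aeval (R n) (hint n) (ht n).1 (ht n).2 _ q le_rfl h i) hi

/-- The union of the rings `R n [t]` localized at the extensions of the maximal ideals. -/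
def bigRing : Subring K where
  carrier := {x | ∃ (n : ℕ) (p q : (R n)[X]), Prim q ∧ x * aeval t q = aeval t p}
  one_mem' := ⟨0, 1, 1, (prim_iff _).2 ⟨0, by simp⟩, by simp⟩
  zero_mem' := ⟨0, 0, 1, (prim_iff _).2 ⟨0, by simp⟩, by simp⟩
  neg_mem' := by
    rintro x ⟨n, p, q, hq, h⟩
    exact ⟨n, -p, q, hq, by rw [neg_mul, h, map_neg]⟩
  mul_mem' := by
    rintro x y ⟨n, p, q, hq, h⟩ ⟨m, p', q', hq', h'⟩
    obtain ⟨P, hP, -⟩ := lift_poly hmono t (le_max_left n m) p
    obtain ⟨Q, hQ, hQp⟩ := lift_poly hmono t (le_max_left n m) q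
    obtain ⟨P', hP', -⟩ := lift_poly hmono t (le_max_right n m) p'
    obtain ⟨Q', hQ', hQp'⟩ := lift_poly hmono t (le_max_right n m) q'
    exact ⟨max n m, P * P', Q * Q', (hQp hq).mul (hQp' hq'), by
      rw [map_mul, map_mul, hP, hP', hQ, hQ', ← h, ← h']; ring⟩
  add_mem' := by
    rintro x y ⟨n, p, q, hq, h⟩ ⟨m, p', q', hq', h'⟩
    obtain ⟨P, hP, -⟩ := lift_poly hmono t (le_max_left n m) p
    obtain ⟨Q, hQ, hQp⟩ := lift_poly hmono t (le_max_left n m) q
    obtain ⟨P', hP', -⟩ := lift_poly hmono t (le_max_right n m) p'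
    obtain ⟨Q', hQ', hQp'⟩ := lift_poly hmono t (le_max_right n m) q'
    exact ⟨max n m, P * Q' + P' * Q, Q * Q', (hQp hq).mul (hQp' hq'), by
      rw [map_add, map_mul, map_mul, map_mul, hP, hP', hQ, hQ', ← h, ← h']; ring⟩

variable [IsNoetherianRing (R 0)]

include hint ht in
theorem isNoetherian_bigRing (hdim : ringKrullDim (R 0) ≤ 2)
    (hfrac : ∀ x : K, ∃ a b : R 0, (b : K) ≠ 0 ∧ x * b = a) : IsNoetherianRing (bigRing hmono t) := by
  haveI : IsFractionRing (R 0) K := IsFractionRing.of_field _ _ fun z => by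
    obtain ⟨a, b, hb, h⟩ := hfrac z
    exact ⟨a, b, (eq_div_iff hb).2 h⟩
  let C0 : Subalgebra (R 0) K := (aeval (R := R 0) t).range
  haveI : IsNoetherianRing C0 := isNoetherianRing_of_surjective (R 0)[X] C0
    (aeval (R := R 0) t).rangeRestrict.toRingHom (AlgHom.rangeRestrict_surjective _)
  haveI : IsFractionRing C0 K := KrullAki.isFractionRing_subalgebra C0
  let g : (R 0)[X] →+* C0 := (aeval (R := R 0) t).rangeRestrict.toRingHom
  have hg : Function.Surjective g := AlgHom.rangeRestrict_surjective _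
  let P' : Ideal (R 0)[X] := RingHom.ker (mapRingHom (residue (R 0)))
  have hP'mem : ∀ q : (R 0)[X], q ∈ P' ↔ ¬ Prim q := fun q => by
    show mapRingHom (residue (R 0)) q = 0 ↔ ¬ q.map (residue (R 0)) ≠ 0
    rw [not_not]; rfl
  have hker : RingHom.ker g ≤ P' := fun q hq => (hP'mem q).2 fun hq' =>
    hq'.aeval_ne_zero t hint ht (congrArg Subtype.val (RingHom.mem_ker.1 hq))
  haveI hP'p : P'.IsPrime := RingHom.ker_isPrime _
  let P0 : Ideal C0 := P'.map g
  haveI hP0 : P0.IsPrime := Ideal.map_isPrime_of_surjective hg hker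
  have hP0c : P0.comap g = P' := by
    rw [Ideal.comap_map_of_surjective' g hg, sup_eq_left.2 hker]
  have hht : P0.height ≤ 1 := by
    have hnm : ¬ P0.IsMaximal := fun h => by
      haveI := Ideal.comap_isMaximal_of_surjective g hg (K := P0)
      haveI : P'.IsMaximal := hP0c ▸ this
      have hsurj : Function.Surjective (mapRingHom (residue (R 0))) := Polynomial.map_surjective _ residue_surjective
      exact Polynomial.not_isField (ResidueField (R 0)) (MulEquiv.isField
        (Ideal.Quotient.field P').toIsField (RingHom.quotientKerEquivOfSurjective hsurj).symm.toMulEquiv)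
    obtain ⟨M, hM, hle⟩ := Ideal.exists_le_maximal P0 hP0.ne_top
    have hlt : P0 < M := lt_of_le_of_ne hle fun h => hnm (h ▸ hM)
    haveI := hM
    have h1 : P0.height + 1 ≤ M.height := Order.add_one_le_of_lt (Ideal.height_strict_mono_of_isPrime hlt)
    obtain ⟨a, b, hb, hab⟩ := hfrac t
    let r : (R 0)[X] := C b * X - C a
    have hr : r ≠ 0 := fun h => by
      have := congrArg (fun p => p.coeff 1) h
      simp [r, coeff_C] at this
      exact hb (by rw [this]; rfl)
    have hgr : g r = 0 := Subtype.ext (by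
      show aeval t r = 0
      simp only [r, map_sub, map_mul, aeval_C, aeval_X]
      show (b : K) * t - (a : K) = 0
      rw [mul_comm, hab, sub_self])
    have h2 := ringKrullDim_succ_le_of_surjective g hg (mem_nonZeroDivisors_of_ne_zero hr) hgr
    rw [Polynomial.ringKrullDim_of_isNoetherianRing] at h2
    have h3 : ringKrullDim C0 ≤ 2 := by
      have h4 : ringKrullDim C0 + 1 ≤ 2 + 1 := h2.trans (by gcongr)
      exact (ENat.WithBot.add_le_add_one_right_iff).1 h4
    have h5 : M.height ≤ 2 := WithBot.coe_le_coe.1 ((Ideal.height_le_ringKrullDim_of_ne_top hM.ne_top).trans h3)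
    exact (WithTop.add_le_add_iff_right (by simp : (1 : ℕ∞) ≠ ⊤)).1 ((h1.trans h5).trans_eq (by rfl))
  have hS : P0.primeCompl ≤ nonZeroDivisors C0 := P0.primeCompl_le_nonZeroDivisors
  let A1 := Localization.subalgebra.ofField K P0.primeCompl hS
  haveI : IsNoetherianRing A1 := IsLocalization.isNoetherianRing P0.primeCompl A1 inferInstance
  haveI : Ring.KrullDimLE 1 A1 := Ring.krullDimLE_iff.2 (by
    rw [IsLocalization.AtPrime.ringKrullDim_eq_height P0 A1]
    exact WithBot.coe_le_coe.2 hht)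
  have hA1 : ∀ x : A1, (x : K) ∈ bigRing hmono t := by
    rintro ⟨x, a, s, hs, rfl⟩
    obtain ⟨p, rfl⟩ := hg a
    obtain ⟨q, rfl⟩ := hg s
    have hq : Prim q := by
      by_contra h
      exact hs (Ideal.mem_map_of_mem g ((hP'mem q).2 h))
    refine ⟨0, p, q, hq, ?_⟩
    show aeval t p * (aeval t q)⁻¹ * aeval t q = aeval t p
    rw [inv_mul_cancel_right₀ (hq.aeval_ne_zero t hint ht)]
  let B : Subalgebra A1 K := { (bigRing hmono t).toSubsemiring with algebraMap_mem' := hA1 }
  haveI : IsNoetherianRing B := KrullAki.isNoetherianRing_subalgebra (A := A1) (K := K) B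
  exact isNoetherianRing_of_ringEquiv B (RingEquiv.refl _ : B ≃+* bigRing hmono t)

/-- Of any two inverse elements one lies in some member of the chain. -/
theorem exists_mem (hdim : ringKrullDim (R 0) ≤ 2) (hfrac : ∀ x : K, ∃ a b : R 0, (b : K) ≠ 0 ∧ x * b = a)
    (hmono : Monotone R) (hint : ∀ n, ∀ x : K, IsIntegral (R n) x → x ∈ R n)
    (hprinc : ∀ n, ∃ γ : R (n + 1), γ ∈ maximalIdeal (R (n + 1)) ∧
      ∀ a : R n, a ∈ maximalIdeal (R n) → ∃ a' : R (n + 1), (a : K) = γ * a') :
    ∃ n, t ∈ R n ∨ t⁻¹ ∈ R n := by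
  by_contra! ht
  haveI := isNoetherian_bigRing hmono t hint ht hdim hfrac
  choose γ hγm hγ using hprinc
  obtain ⟨a₀, b₀, hb₀, hab₀⟩ := hfrac t
  have hdom : ∀ (n m : ℕ) (h : n ≤ m) (a : R n), a ∈ maximalIdeal (R n) →
      (⟨(a : K), hmono h a.2⟩ : R m) ∈ maximalIdeal (R m) := by
    intro n m h
    induction h with
    | refl => exact fun a ha => ha
    | @step m h ih =>
      intro a ha
      obtain ⟨a', ha'⟩ := hγ m _ (ih a ha)
      rw [show (⟨(a : K), hmono (Nat.le.step h) a.2⟩ : R (m + 1)) = γ m * a' from Subtype.ext ha']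
      exact Ideal.mul_mem_right _ _ (hγm m)
  let P : ℕ → Type u := fun n => {ab : R n × R n // (ab.2 : K) ≠ 0 ∧ t * ab.2 = ab.1}
  have hm : ∀ (n : ℕ) (ab : P n), ab.1.1 ∈ maximalIdeal (R n) ∧ ab.1.2 ∈ maximalIdeal (R n) := by
    intro n ab
    constructor
    · by_contra h
      obtain ⟨u, hu⟩ := (not_not.1 fun h' => h ((mem_maximalIdeal _).2 h') : IsUnit ab.1.1)
      refine (ht n).2 ?_
      rw [show t⁻¹ = ((↑u⁻¹ : R n) : K) * (ab.1.2 : K) from inv_eq_of_mul_eq_one_left (by
        rw [mul_assoc, mul_comm (ab.1.2 : K), ab.2.2, ← hu]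
        exact_mod_cast congrArg Subtype.val u.inv_mul)]
      exact mul_mem (Subtype.mem _) (Subtype.mem _)
    · by_contra h
      obtain ⟨u, hu⟩ := (not_not.1 fun h' => h ((mem_maximalIdeal _).2 h') : IsUnit ab.1.2)
      refine (ht n).1 ?_
      rw [show t = (ab.1.1 : K) * ((↑u⁻¹ : R n) : K) by
        rw [← ab.2.2, mul_assoc, ← hu]
        have : ((u : R n) : K) * ((↑u⁻¹ : R n) : K) = 1 := by exact_mod_cast congrArg Subtype.val u.mul_inv
        rw [this, mul_one]]
      exact mul_mem (Subtype.mem _) (Subtype.mem _)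
  have hnext : ∀ (n : ℕ) (ab : P n), ∃ ab' : P (n + 1), (ab.1.2 : K) = γ n * ab'.1.2 := by
    intro n ab
    obtain ⟨a', ha'⟩ := hγ n _ (hm n ab).1
    obtain ⟨b', hb'⟩ := hγ n _ (hm n ab).2
    have hγ0 : (γ n : K) ≠ 0 := fun h => ab.2.1 (by rw [hb', h, zero_mul])
    refine ⟨⟨(a', b'), fun h => ab.2.1 (by rw [hb']; exact mul_eq_zero_of_right _ h), ?_⟩, hb'⟩
    refine mul_left_cancel₀ hγ0 ?_
    rw [← ha', ← ab.2.2, hb']; ring
  choose next hnext using hnext
  let seq : ∀ n, P n := fun n => Nat.rec ⟨(a₀, b₀), hb₀, hab₀⟩ next n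
  let B := bigRing hmono t
  have hle : ∀ n, ∀ x : R n, (x : K) ∈ B := fun n x =>
    ⟨n, Polynomial.C x, 1, (prim_iff _).2 ⟨0, by simp⟩, by rw [map_one, mul_one, aeval_C]; rfl⟩
  let I : ℕ → Ideal B := fun n => Ideal.span {⟨((seq n).1.2 : K), hle n _⟩}
  have hlt : ∀ n, I n < I (n + 1) := by
    intro n
    have he : ((seq n).1.2 : K) = γ n * (seq (n + 1)).1.2 := hnext n (seq n)
    refine lt_of_le_of_ne ?_ fun h => ?_
    · rw [Ideal.span_singleton_le_iff_mem, Ideal.mem_span_singleton]
      exact ⟨⟨_, hle (n + 1) (γ n)⟩, Subtype.ext (by rw [he]; exact mul_comm _ _)⟩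
    · have hmem : (⟨((seq (n + 1)).1.2 : K), hle (n + 1) _⟩ : B) ∈ I n := h ▸ Ideal.mem_span_singleton_self _
      obtain ⟨⟨v, m, p, q, hq, hv⟩, hv'⟩ := Ideal.mem_span_singleton.1 hmem
      have hv1 : (γ n : K) * v = 1 := by
        refine mul_left_cancel₀ (seq (n + 1)).2.1 ?_
        have := congrArg Subtype.val hv'
        change ((seq (n + 1)).1.2 : K) = ((seq n).1.2 : K) * v at this
        rw [mul_one]
        calc ((seq (n + 1)).1.2 : K) * ((γ n : K) * v) = ((γ n : K) * (seq (n + 1)).1.2) * v := by ring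
          _ = _ := by rw [← he, ← this]
      obtain ⟨Q, hQ, hQp⟩ := lift_poly hmono t (le_max_right (n + 1) m) q
      obtain ⟨P', hP', -⟩ := lift_poly hmono t (le_max_right (n + 1) m) p
      let γ' : R (max (n + 1) m) := ⟨(γ n : K), hmono (le_max_left (n + 1) m) (γ n).2⟩
      have hγ' : ¬ IsUnit γ' := (mem_maximalIdeal _).1 (hdom (n + 1) _ (le_max_left _ _) (γ n) (hγm n))
      have hP : Prim (Q - Polynomial.C γ' * P') := by
        rw [Prim, Polynomial.map_sub, Polynomial.map_mul, map_C, (residue_eq_zero_iff _).2 ((mem_maximalIdeal _).2 hγ'),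
          map_zero, zero_mul, sub_zero]
        exact hQp hq
      refine hP.aeval_ne_zero t hint ht ?_
      rw [map_sub, map_mul, aeval_C, hQ, hP', ← hv]
      show aeval t q - (γ n : K) * (v * aeval t q) = 0
      rw [← mul_assoc, hv1, one_mul, sub_self]
  exact not_strictMono_of_wellFoundedGT I (strictMono_nat_of_lt_succ hlt)

end Groth.Agent.NormSeq
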