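import Mathlib
import Groth.Agent.NormSeq.Val
import Groth.Agent.NormSeq.Model
import Groth.Agent.NormSeq.Round

/-!
# Rational maps become morphisms after normalized blow-ups in closed points
-/

set_option autoImplicit false
set_option linter.style.haveILetI false
set_option linter.unusedSectionVars false
set_option backward.isDefEq.respectTransparency false
set_option backward.isDefEq.respectTransparency.types false
set_option maxHeartbeats 800000

universe u

open CategoryTheory CategoryTheory.Limits AlgebraicGeometry TopologicalSpace IsLocalRing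
open Groth.Agent.H23.StalkIdeal
open Groth.Agent.PointBlow (pt)

noncomputable section

namespace Groth.Agent.NormSeq

variable {Z₀ : Scheme.{u}} [IsIntegral Z₀]

/-- Backwards compatible sequences in a tower of finite nonempty sets. -/
theorem exists_chain {α : ℕ → Type u} [∀ n, Finite (α n)] [∀ n, Nonempty (α n)] (π : ∀ n, α (n + 1) → α n) :
    ∃ f : ∀ n, α n, ∀ n, π n (f (n + 1)) = f n := by
  classical
  let Deep : ℕ → ∀ n, α n → Prop := fun m => Nat.rec (fun _ _ => True)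
    (fun _ D n w => ∃ c : α (n + 1), π n c = w ∧ D (n + 1) c) m
  have hsucc : ∀ m n (w : α n), Deep (m + 1) n w → Deep m n w := by
    intro m
    induction m with
    | zero => intros; trivial
    | succ m ih => rintro n w ⟨c, hc, hD⟩; exact ⟨c, hc, ih _ c hD⟩
  have hanti : ∀ n (w : α n) m k, Deep (m + k) n w → Deep m n w := by
    intro n w m k
    induction k with
    | zero => exact id
    | succ k ih => exact fun h => ih (hsucc _ _ w h)
  have hex : ∀ m n, ∃ w : α n, Deep m n w := by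
    intro m
    induction m with
    | zero => exact fun n => ⟨Classical.arbitrary _, trivial⟩
    | succ m ih => exact fun n => let ⟨c, hc⟩ := ih (n + 1); ⟨π n c, c, rfl, hc⟩
  have hpick : ∀ (n : ℕ) (Q : α n → Prop), (∀ m, ∃ w, Q w ∧ Deep m n w) → ∃ w, Q w ∧ ∀ m, Deep m n w := by
    intro n Q h
    by_contra! hno
    haveI : Fintype (α n) := Fintype.ofFinite _
    have hall : ∀ w, ∃ m, Q w → ¬ Deep m n w := fun w => by
      by_cases hQ : Q w
      · exact (hno w hQ).imp fun m hm _ => hm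
      · exact ⟨0, fun h => absurd h hQ⟩
    choose g hg using hall
    obtain ⟨w, hwQ, hwD⟩ := h (∑ w, g w)
    obtain ⟨k, hk⟩ := Nat.exists_eq_add_of_le (Finset.single_le_sum (f := g) (fun _ _ => Nat.zero_le _) (Finset.mem_univ w))
    rw [hk] at hwD
    exact hg w hwQ (hanti n w _ _ hwD)
  obtain ⟨w₀, -, hw₀⟩ := hpick 0 (fun _ => True) fun m => (hex m 0).imp fun w h => ⟨trivial, h⟩
  have hnext : ∀ n (w : {w : α n // ∀ m, Deep m n w}), ∃ c : {c : α (n + 1) // ∀ m, Deep m (n + 1) c}, π n c.1 = w.1 :=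
    fun n w => by
      obtain ⟨c, hc, hD⟩ := hpick (n + 1) (fun c => π n c = w.1) fun m => w.2 (m + 1)
      exact ⟨⟨c, hD⟩, hc⟩
  choose next hnext using hnext
  let seq : ∀ n, {w : α n // ∀ m, Deep m n w} := fun n => Nat.rec ⟨w₀, hw₀⟩ next n
  exact ⟨fun n => (seq n).1, fun n => hnext n (seq n)⟩

/-- A stage of the process. -/
structure St (Z₀ : Scheme.{u}) [IsIntegral Z₀] where
  M : Model Z₀
  nice : Nice M.Z
  proper : IsProper M.G
  seq : Resolve.IsNormPtBlowupSeq M.G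

theorem isIntegrallyClosed_range (M : Model Z₀) (w : M.Z) (hn : IsIntegrallyClosed (M.Z.presheaf.stalk w)) {x : Z₀.functionField}
    (hx : IsIntegral (M.toKHom w).hom.range x) : x ∈ (M.toKHom w).hom.range := by
  haveI := hn
  obtain ⟨p, hp, hpx⟩ := hx
  have hsurj := (M.toKHom w).hom.rangeRestrict_surjective
  obtain ⟨P, hP, -, hPm⟩ := Polynomial.lifts_and_degree_eq_and_monic
    (f := (M.toKHom w).hom.rangeRestrict) (Polynomial.mem_lifts_of_surjective hsurj p) hp
  have h1 : Polynomial.eval₂ (M.toKHom w).hom x P = 0 := by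
    rw [← hpx, ← hP, Polynomial.eval₂_map]
    rfl
  have h2 : Polynomial.eval₂ (algebraMap (M.Z.presheaf.stalk w) M.Z.functionField) (M.ψ x) P = 0 := by
    have h3 := congrArg M.ψ h1
    rw [Polynomial.hom_eval₂, map_zero] at h3
    convert h3 using 3
    ext a
    show _ = (M.toKHom w ≫ M.ψ) a
    rw [Model.toKHom, Category.assoc, IsIso.inv_hom_id, Category.comp_id]
    rfl
  obtain ⟨a, ha⟩ := IsIntegrallyClosed.isIntegral_iff.1 (⟨P, hPm, h2⟩ : IsIntegral (M.Z.presheaf.stalk w) (M.ψ x))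
  refine ⟨a, (ConcreteCategory.bijective_of_isIso M.ψ).1 (Eq.trans ?_ ha)⟩
  show (M.toKHom w ≫ M.ψ) a = _
  rw [Model.toKHom, Category.assoc, IsIso.inv_hom_id, Category.comp_id]
  rfl

theorem toK_fraction (M : Model Z₀) (w : M.Z) (x : Z₀.functionField) :
    ∃ a b : (M.toKHom w).hom.range, (b : Z₀.functionField) ≠ 0 ∧ x * b = a := by
  obtain ⟨r, s, hs, hrs⟩ := IsFractionRing.div_surjective (A := M.Z.presheaf.stalk w) (M.ψ x)
  have hs0 : (s : M.Z.presheaf.stalk w) ≠ 0 := nonZeroDivisors.ne_zero hs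
  refine ⟨⟨_, r, rfl⟩, ⟨_, s, rfl⟩, fun h => hs0 (M.toK_injective w (h.trans (map_zero _).symm)),
    (ConcreteCategory.bijective_of_isIso M.ψ).1 ?_⟩
  have e : ∀ b, M.ψ (M.toKHom w b) = algebraMap (M.Z.presheaf.stalk w) M.Z.functionField b := fun b => by
    show (M.toKHom w ≫ M.ψ) b = _
    rw [Model.toKHom, Category.assoc, IsIso.inv_hom_id, Category.comp_id]
    rfl
  rw [map_mul]
  show M.ψ x * M.ψ (M.toKHom w s) = M.ψ (M.toKHom w r)
  rw [e, e, ← hrs, div_mul_cancel₀]
  exact (map_ne_zero_iff _ (IsFractionRing.injective (M.Z.presheaf.stalk w) M.Z.functionField)).2 hs0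

/-- The local ring at a point of a model as a subring of the function field. -/
def locRing (M : Model Z₀) (w : M.Z) : Subring Z₀.functionField := (M.toKHom w).hom.range

instance (M : Model Z₀) (w : M.Z) : IsLocalRing (locRing M w) :=
  IsLocalRing.of_surjective' (M.toKHom w).hom.rangeRestrict (M.toKHom w).hom.rangeRestrict_surjective

variable {P : Scheme.{u}} (q : P ⟶ Z₀) [IsProper q] (σ₀ : Spec Z₀.functionField ⟶ P)
  (hσ₀ : σ₀ ≫ q = Z₀.fromSpecStalk (genericPoint Z₀))
include hσ₀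

theorem dim_of_undef (S : St Z₀) [IsLocallyNoetherian S.M.Z] (w : S.M.Z) (hw : ¬ S.M.Def q σ₀ w) :
    IsClosed ({w} : Set S.M.Z) ∧ ringKrullDim (S.M.Z.presheaf.stalk w) = 2 := by
  have hd : ringKrullDim (S.M.Z.presheaf.stalk w) = 2 := by
    refine le_antisymm (S.nice.dim w) ?_
    by_contra h2
    refine hw (S.M.def_of_valuationRing q σ₀ hσ₀ w ?_)
    have h1 : ringKrullDim (S.M.Z.presheaf.stalk w) ≤ 1 := by
      generalize ringKrullDim (S.M.Z.presheaf.stalk w) = d at h2 ⊢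
      cases d with
      | bot => exact bot_le
      | coe c =>
        exact WithBot.coe_le_coe.2 (Order.le_of_lt_add_one (lt_of_lt_of_le
          (WithBot.coe_lt_coe.1 (lt_of_not_ge h2)) (le_of_eq (by rfl))))
    haveI : IsIntegrallyClosed (S.M.Z.presheaf.stalk w) := (S.nice.normal w).2
    haveI : Ring.KrullDimLE 1 (S.M.Z.presheaf.stalk w) := Ring.krullDimLE_iff.mpr h1
    haveI : Ring.DimensionLEOne (S.M.Z.presheaf.stalk w) :=
      ⟨fun {p} hp0 hp => Ring.krullDimLE_one_iff_of_noZeroDivisors.mp inferInstance p hp0 hp⟩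
    have hD : IsDedekindDomain (S.M.Z.presheaf.stalk w) := {}
    exact ((tfae_of_isNoetherianRing_of_isLocalRing_of_isDomain (S.M.Z.presheaf.stalk w)).out 2 1
      (a := IsDedekindDomain (S.M.Z.presheaf.stalk w)) (b := ValuationRing (S.M.Z.presheaf.stalk w)) rfl rfl).mp hD
  refine ⟨isClosed_of_closure_subset fun v hv => ?_, hd⟩
  by_contra hne
  have hlt : v < w := lt_of_le_of_ne (specializes_iff_mem_closure.2 hv) hne
  have h1 := S.nice.dim v
  rw [ringKrullDim_stalk_eq_coheight] at h1 hd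
  have h1' : Order.coheight v ≤ 2 := WithBot.coe_le_coe.1 (h1.trans_eq (by rfl))
  have h2 := Order.coheight_add_one_le hlt
  rw [show Order.coheight w = 2 from WithBot.coe_eq_coe.1 (hd.trans (by rfl))] at h2
  exact absurd (h2.trans h1') (by decide)

theorem exists_next (S : St Z₀) : ∃ (Z' : Scheme.{u}) (h : Z' ⟶ S.M.Z) (_ : IsIntegral Z')
    (_ : Nice Z') (_ : IsProper h) (_ : h (genericPoint Z') = genericPoint S.M.Z)
    (_ : IsIso (h.stalkMap (genericPoint Z'))) (_ : Resolve.IsNormPtBlowupSeq (h ≫ S.M.G)),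
    ∀ t : S.M.Z, ¬ S.M.Def q σ₀ t → ∀ ht : IsClosed ({t} : Set S.M.Z),
      BlowUp.IsEffCartierIdeal ((pt ht).comap h) := by
  haveI := S.nice.noeth
  have hfin : {w : S.M.Z | ¬ S.M.Def q σ₀ w}.Finite :=
    PointBlow.finite_of_closed_points (S.M.isClosed_undef q σ₀) fun w hw => (dim_of_undef q σ₀ hσ₀ S w hw).1
  obtain ⟨Z', h, hint, hN, hP, hseq, hbir, hcar⟩ := exists_round S.nice hfin.toFinset
    fun t ht => dim_of_undef q σ₀ hσ₀ S t (hfin.mem_toFinset.1 ht)
  haveI := hP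
  exact ⟨Z', h, hint, hN, hP, SurfSeq.map_generic h hbir, hbir, hseq _ _ S.seq,
    fun t ht htc => hcar t (hfin.mem_toFinset.2 ht) htc⟩

variable [IsNoetherian Z₀]

/-- The rational map becomes a morphism on some stage. -/
theorem exists_stage (hnice : Nice Z₀) : ∃ S : St Z₀, ∀ w, S.M.Def q σ₀ w := by
  classical
  by_contra! hne
  choose Z' h hint hN hP hgen hbir hseq hcar using exists_next q σ₀ hσ₀
  let next : St Z₀ → St Z₀ := fun S =>
    haveI := hint S
    { M := S.M.comp (h S) (hgen S) (hbir S)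
      nice := hN S
      proper := by
        haveI := hP S
        haveI := S.proper
        exact inferInstanceAs (IsProper (h S ≫ S.M.G))
      seq := hseq S }
  let M₀ : Model Z₀ :=
    { Z := Z₀
      G := 𝟙 Z₀
      gen := rfl
      bir := inferInstance }
  let S₀ : St Z₀ :=
    { M := M₀
      nice := hnice
      proper := inferInstanceAs (IsProper (𝟙 Z₀))
      seq := Resolve.IsNormPtBlowupSeq.iso (Iso.refl Z₀) }
  let S : ℕ → St Z₀ := fun n => Nat.rec S₀ (fun _ T => next T) n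
  haveI : ∀ n, IsNoetherian (S n).M.Z := fun n => (S n).nice.noeth
  let α : ℕ → Type u := fun n => {w : (S n).M.Z // ¬ (S n).M.Def q σ₀ w}
  haveI : ∀ n, Finite (α n) := fun n => Set.finite_coe_iff.2
    (PointBlow.finite_of_closed_points ((S n).M.isClosed_undef q σ₀) fun w hw => (dim_of_undef q σ₀ hσ₀ (S n) w hw).1)
  haveI : ∀ n, Nonempty (α n) := fun n => (hne (S n)).elim fun w hw => ⟨⟨w, hw⟩⟩
  have hdown : ∀ n (w : α (n + 1)), ¬ (S n).M.Def q σ₀ (h (S n) w.1) := fun n w hw =>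
    w.2 (by
      haveI := hint (S n)
      exact (S n).M.def_comp q σ₀ (h (S n)) (hgen (S n)) (hbir (S n)) w.1 hw)
  obtain ⟨ω, hω⟩ := exists_chain (α := α) fun n w => ⟨h (S n) w.1, hdown n w⟩
  let w : ∀ n, (S n).M.Z := fun n => (ω n).1
  have hw : ∀ n, h (S n) (w (n + 1)) = w n := fun n => congrArg Subtype.val (hω n)
  let R : ℕ → Subring Z₀.functionField := fun n => locRing (S n).M (w n)
  haveI : ∀ n, IsLocalRing (R n) := fun n => inferInstanceAs (IsLocalRing (locRing (S n).M (w n)))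
  let e : ∀ n, (S n).M.Z.presheaf.stalk (w n) ≃+* R n := fun n => RingEquiv.ofBijective ((S n).M.toKHom (w n)).hom.rangeRestrict
    ⟨fun a b hab => (S n).M.toK_injective (w n) (congrArg Subtype.val hab),
      ((S n).M.toKHom (w n)).hom.rangeRestrict_surjective⟩
  have hcompat : ∀ (n : ℕ) (v : (S n).M.Z) (hv : v = w n) (a : (S n).M.Z.presheaf.stalk v),
      ((S n).M.toKHom v a) ∈ R n := by
    rintro n v rfl a; exact ⟨a, rfl⟩
  have hstep : ∀ n (a : (S n).M.Z.presheaf.stalk (h (S n) (w (n + 1)))),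
      (S n).M.toKHom _ a = (S (n + 1)).M.toKHom (w (n + 1)) ((h (S n)).stalkMap (w (n + 1)) a) := fun n a => by
    haveI := hint (S n)
    exact (congr($((S n).M.comp_toK (h (S n)) (hgen (S n)) (hbir (S n)) (w (n + 1))) a)).symm
  have hmono : Monotone R := monotone_nat_of_le_succ fun n => by
    rintro x ⟨a, rfl⟩
    have key : ∀ (v : (S n).M.Z) (hv : v = h (S n) (w (n + 1))) (a : (S n).M.Z.presheaf.stalk v),
        (S n).M.toKHom v a ∈ R (n + 1) := by
      rintro v rfl a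
      exact ⟨_, (hstep n a).symm⟩
    exact key (w n) (hw n).symm a
  haveI : IsNoetherianRing (R 0) := isNoetherianRing_of_ringEquiv _ (e 0)
  have hprinc : ∀ n, ∃ γ : R (n + 1), γ ∈ maximalIdeal (R (n + 1)) ∧
      ∀ a : R n, a ∈ maximalIdeal (R n) → ∃ a' : R (n + 1), (a : Z₀.functionField) = γ * a' := by
    intro n
    have hundef := (ω n).2
    have hc := (dim_of_undef q σ₀ hσ₀ (S n) (w n) hundef).1
    have hC := hcar (S n) (w n) hundef hc
    obtain ⟨γ, -, hγ⟩ := exists_gen hC (w (n + 1))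
    have hmem : γ ∈ maximalIdeal ((S (n + 1)).M.Z.presheaf.stalk (w (n + 1))) := by
      refine (mem_maximalIdeal γ).2 fun hu => (PointBlow.mem_support_iff _ (w (n + 1))).1
        ((PointBlow.mem_support_exc hc (w (n + 1))).2 (hw n)) (hγ.trans (Ideal.span_singleton_eq_top.2 hu))
    refine ⟨e (n + 1) γ, (mem_maximalIdeal _).2 fun hu => (mem_maximalIdeal γ).1 hmem
      (by simpa using hu.map (e (n + 1)).symm), fun a ha => ?_⟩
    obtain ⟨a₀, rfl⟩ := (e n).surjective a
    have ha₀ : a₀ ∈ maximalIdeal ((S n).M.Z.presheaf.stalk (w n)) :=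
      (mem_maximalIdeal a₀).2 fun hu => (mem_maximalIdeal _).1 ha (hu.map (e n))
    have key : ∀ (v : (S n).M.Z) (hv : v = h (S n) (w (n + 1))) (a₀ : (S n).M.Z.presheaf.stalk v),
        a₀ ∈ sI (pt hc) v → ∃ a' : R (n + 1), (S n).M.toKHom v a₀ = (e (n + 1) γ : Z₀.functionField) * a' := by
      rintro v rfl a₀ ha₀
      have h1 : (h (S n)).stalkMap (w (n + 1)) a₀ ∈ Ideal.span {γ} := by
        rw [← hγ, sI_comap]; exact Ideal.mem_map_of_mem _ ha₀
      obtain ⟨b, hb⟩ := Ideal.mem_span_singleton.1 h1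
      refine ⟨e (n + 1) b, ?_⟩
      rw [hstep, hb, map_mul]
      rfl
    exact key (w n) (hw n).symm a₀ (by rw [sI_pt hc]; exact ha₀)
  have hval : ∀ x : Z₀.functionField, ∃ n, x ∈ R n ∨ x⁻¹ ∈ R n := fun x =>
    exists_mem x ((ringKrullDim_eq_of_ringEquiv (e 0)).symm.trans_le ((S 0).nice.dim _))
      (toK_fraction (S 0).M (w 0)) hmono
      (fun n x hx => isIntegrallyClosed_range (S n).M (w n) ((S n).nice.normal (w n)).2 hx) hprinc
  let V : ValuationSubring Z₀.functionField :=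
    { carrier := {x | ∃ n, x ∈ R n}
      mul_mem' := fun {x y} ⟨n, hx⟩ ⟨m, hy⟩ => ⟨max n m, mul_mem (hmono (le_max_left n m) hx) (hmono (le_max_right n m) hy)⟩
      one_mem' := ⟨0, one_mem _⟩
      add_mem' := fun {x y} ⟨n, hx⟩ ⟨m, hy⟩ => ⟨max n m, add_mem (hmono (le_max_left n m) hx) (hmono (le_max_right n m) hy)⟩
      zero_mem' := ⟨0, zero_mem _⟩
      neg_mem' := fun {x} ⟨n, hx⟩ => ⟨n, neg_mem hx⟩
      mem_or_inv_mem' := fun x => (hval x).elim fun n hn => hn.imp (fun h => ⟨n, h⟩) fun h => ⟨n, h⟩ }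
  let i₀ : (S 0).M.Z.presheaf.stalk (w 0) ⟶ CommRingCat.of V :=
    CommRingCat.ofHom (((S 0).M.toKHom (w 0)).hom.codRestrict V.toSubring fun a => ⟨0, a, rfl⟩)
  let j : CommRingCat.of V ⟶ Z₀.functionField := CommRingCat.ofHom V.subtype
  have hij : i₀ ≫ j = (S 0).M.toKHom (w 0) := rfl
  let a₂ : Spec (CommRingCat.of V) ⟶ Z₀ := Spec.map i₀ ≫ (S 0).M.Z.fromSpecStalk (w 0) ≫ (S 0).M.G
  have hvc : ValuativeCriterion.Existence q := by
    have h : IsProper q := ‹_›
    rw [IsProper.eq_valuativeCriterion] at h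
    exact h.1.1.1.existence
  obtain ⟨⟨σ, hσ1, hσ2⟩⟩ := (hvc
    { R := V
      K := Z₀.functionField
      i₁ := σ₀
      i₂ := a₂
      commSq := ⟨by
        show σ₀ ≫ q = Spec.map j ≫ a₂
        rw [hσ₀, ← Spec.map_comp_assoc, hij, ← Category.assoc, (S 0).M.spec_toK, (S 0).M.genHom_G]⟩ }).exists_lift
  change Spec.map j ≫ σ = σ₀ at hσ1
  let x₀ : Z₀ := (S 0).M.G (w 0)
  obtain ⟨B, hB, hxB, -⟩ := exists_isAffineOpen_mem_and_subset (x := x₀) (U := ⊤) trivial
  have hwB : ∀ n, (S n).M.G (w n) ∈ B := by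
    intro n
    induction n with
    | zero => exact hxB
    | succ n ih =>
      show (h (S n) ≫ (S n).M.G) (w (n + 1)) ∈ B
      rw [Scheme.Hom.comp_apply, hw n]
      exact ih
  let c := closedPoint (CommRingCat.of V)
  have hqc : q (σ c) ∈ B := by
    rw [← Scheme.Hom.comp_apply, show σ ≫ q = a₂ from hσ2]
    have hlocal : Spec.map i₀ c ⤳ closedPoint ((S 0).M.Z.presheaf.stalk (w 0)) := IsLocalRing.specializes_closedPoint _
    have h1 := (hlocal.map ((S 0).M.Z.fromSpecStalk (w 0) ≫ (S 0).M.G).continuous)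
    rw [show ((S 0).M.Z.fromSpecStalk (w 0) ≫ (S 0).M.G) (closedPoint _) = x₀ by
      rw [Scheme.Hom.comp_apply, Scheme.fromSpecStalk_closedPoint]] at h1
    exact h1.mem_open B.isOpen hxB
  obtain ⟨A, hA, hcA, hAB⟩ := exists_isAffineOpen_mem_and_subset (x := σ c) (U := q ⁻¹ᵁ B) hqc
  have hrA : Set.range σ ⊆ Set.range hA.fromSpec := by
    rw [hA.range_fromSpec]
    rintro _ ⟨v, rfl⟩
    exact ((IsLocalRing.specializes_closedPoint v).map σ.continuous).mem_open A.isOpen hcA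
  let αV : Γ(P, A) ⟶ CommRingCat.of V := Spec.preimage (IsOpenImmersion.lift hA.fromSpec σ hrA)
  have hαV : Spec.map αV ≫ hA.fromSpec = σ := by
    rw [Spec.map_preimage, IsOpenImmersion.lift_fac]
  haveI : Nonempty B := ⟨⟨x₀, hxB⟩⟩
  let β : Γ(Z₀, B) ⟶ Z₀.functionField := Z₀.germToFunctionField B
  have hβ : Spec.map β ≫ hB.fromSpec = Z₀.fromSpecStalk (genericPoint Z₀) := by
    rw [← hB.fromSpecStalk_eq_fromSpecStalk ((genericPoint_specializes x₀).mem_open B.isOpen hxB)]
    rfl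
  have hαβ : q.appLE B A hAB ≫ αV ≫ j = β := by
    apply Spec.map_injective
    rw [← cancel_mono hB.fromSpec, hβ, Spec.map_comp, Category.assoc, Spec.map_comp, Category.assoc,
      IsAffineOpen.SpecMap_appLE_fromSpec q hB hA, reassoc_of% hαV, reassoc_of% hσ1, hσ₀]
  have hbase : ∀ n, Z₀.presheaf.germ B ((S n).M.G (w n)) (hwB n) ≫
      (S n).M.G.stalkMap (w n) ≫ (S n).M.toKHom (w n) = β := fun n => by
    rw [(S n).M.stalkMap_toK, TopCat.Presheaf.germ_stalkSpecializes]
  have hFT : (q.appLE B A hAB).hom.FiniteType :=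
    LocallyOfFiniteType.finiteType_appLE q hB hA hAB
  letI := (q.appLE B A hAB).hom.toAlgebra
  obtain ⟨s, hs⟩ : (⊤ : Subalgebra Γ(Z₀, B) Γ(P, A)).FG := hFT.out
  obtain ⟨N, hN⟩ : ∃ N, ∀ a ∈ s, (αV ≫ j) a ∈ R N := by
    have : ∀ a, ∃ n, (αV ≫ j) a ∈ R n := fun a => (αV a).2
    choose m hm using this
    exact ⟨s.sup m, fun a ha => hmono (Finset.le_sup ha) (hm a)⟩
  have hmemR : ∀ a : Γ(P, A), (αV ≫ j) a ∈ R N := fun a => by
    have ha : a ∈ Algebra.adjoin Γ(Z₀, B) (s : Set Γ(P, A)) := by rw [hs]; trivial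
    induction ha using Algebra.adjoin_induction with
    | mem a ha => exact hN a ha
    | algebraMap b =>
      show (q.appLE B A hAB ≫ αV ≫ j) b ∈ R N
      rw [hαβ, ← hbase N]
      exact ⟨_, rfl⟩
    | add a b _ _ ha hb => rw [map_add]; exact add_mem ha hb
    | mul a b _ _ ha hb => rw [map_mul]; exact mul_mem ha hb
  let αN : Γ(P, A) ⟶ (S N).M.Z.presheaf.stalk (w N) :=
    CommRingCat.ofHom ((e N).symm.toRingHom.comp ((αV ≫ j).hom.codRestrict (R N) hmemR))
  have hαN : αN ≫ (S N).M.toKHom (w N) = αV ≫ j := by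
    refine CommRingCat.hom_ext (RingHom.ext fun a => ?_)
    exact congrArg Subtype.val ((e N).apply_symm_apply ⟨_, hmemR a⟩)
  refine (ω N).2 ⟨Spec.map αN ≫ hA.fromSpec, ?_, ?_⟩
  · have hkey : q.appLE B A hAB ≫ αN = Z₀.presheaf.germ B ((S N).M.G (w N)) (hwB N) ≫ (S N).M.G.stalkMap (w N) := by
      refine CommRingCat.hom_ext (RingHom.ext fun b => (S N).M.toK_injective (w N) ?_)
      show (q.appLE B A hAB ≫ αN ≫ (S N).M.toKHom (w N)) b =
        (Z₀.presheaf.germ B ((S N).M.G (w N)) (hwB N) ≫ (S N).M.G.stalkMap (w N) ≫ (S N).M.toKHom (w N)) b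
      rw [hαN, hαβ, hbase N]
    rw [Category.assoc, ← IsAffineOpen.SpecMap_appLE_fromSpec q hB hA hAB, ← Category.assoc, ← Spec.map_comp, hkey,
      Spec.map_comp, Category.assoc, show Spec.map (Z₀.presheaf.germ B ((S N).M.G (w N)) (hwB N)) ≫ hB.fromSpec =
        Z₀.fromSpecStalk ((S N).M.G (w N)) from hB.fromSpecStalk_eq_fromSpecStalk (hwB N),
      Scheme.SpecMap_stalkMap_fromSpecStalk]
  · rw [← Spec.map_comp_assoc, hαN, Spec.map_comp, Category.assoc, hαV, hσ1]

/-- The dominating sequence of normalized blow-ups. -/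
theorem exists_dominating (hnice : Nice Z₀) :
    ∃ (M : Model Z₀) (t : M.Z ⟶ P), Resolve.IsNormPtBlowupSeq M.G ∧ t ≫ q = M.G ∧ M.genHom ≫ t = σ₀ := by
  obtain ⟨S, hS⟩ := exists_stage q σ₀ hσ₀ hnice
  haveI := S.nice.noeth
  obtain ⟨t, h1, h2⟩ := S.M.exists_morphism q σ₀ hS
  exact ⟨S.M, t, S.seq, h1, h2⟩

end Groth.Agent.NormSeq
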