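import Mathlib
import Groth.Agent.NormSeq.FinBir
import Groth.Agent.RatSing.Fibre

/-!
# Schemes over rings with finite birational normalisations
-/

set_option autoImplicit false
set_option linter.style.haveILetI false
set_option linter.unusedSectionVars false
set_option backward.isDefEq.respectTransparency false
set_option backward.isDefEq.respectTransparency.types false
set_option maxHeartbeats 400000

universe u

open CategoryTheory CategoryTheory.Limits AlgebraicGeometry TopologicalSpace IsLocalRing

noncomputable section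

namespace Groth.Agent.NormSeq

variable {R : CommRingCat.{u}} [IsDomain R]

/-- The structure map of a birational scheme to its function field gives a fraction field. -/
theorem isFractionRing_toK (N : Model (Spec R)) :
    letI := (N.ψ.hom.comp (algebraMap R (Spec R).functionField)).toAlgebra
    IsFractionRing R N.Z.functionField := by
  letI := (N.ψ.hom.comp (algebraMap R (Spec R).functionField)).toAlgebra
  haveI : FaithfulSMul R N.Z.functionField := (faithfulSMul_iff_algebraMap_injective _ _).2
    ((ConcreteCategory.bijective_of_isIso N.ψ).1.comp (IsFractionRing.injective R (Spec R).functionField))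
  refine IsFractionRing.of_field _ _ fun z => ?_
  obtain ⟨y, rfl⟩ := (ConcreteCategory.bijective_of_isIso N.ψ).2 z
  obtain ⟨a, b, -, hab⟩ := IsFractionRing.div_surjective (A := R) y
  exact ⟨a, b, by rw [← hab, map_div₀]; rfl⟩

/-- Birational schemes of finite type have finite normalisation. -/
theorem isFinite_normalizationι_of_finBir (hF : FinBir R) (N : Model (Spec R)) [LocallyOfFiniteType N.G]
    [QuasiCompact (N.Z.fromSpecStalk (genericPoint N.Z))] [QuasiSeparated (N.Z.fromSpecStalk (genericPoint N.Z))] :
    IsFinite (Curv2.normalizationι N.Z) := by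
  classical
  refine CplNormFinite.isFinite_normalizationι_of_forall fun U _ hU => ?_
  letI algR : Algebra R N.Z.functionField := (N.ψ.hom.comp (algebraMap R (Spec R).functionField)).toAlgebra
  haveI := isFractionRing_toK N
  let φ : R →+* Γ(N.Z, U) := BlowUpLib.strHom (A := R) N.G U
  have hφ : (algebraMap Γ(N.Z, U) N.Z.functionField).comp φ = algebraMap R N.Z.functionField := by
    refine RingHom.ext fun a => ?_
    have hg : genericPoint N.Z ∈ U := by
      obtain ⟨u⟩ := ‹Nonempty U›
      exact (genericPoint_specializes u.1).mem_open U.isOpen u.2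
    show N.Z.presheaf.germ U _ hg (φ a) = N.ψ (algebraMap R (Spec R).functionField a)
    rw [RatSing.germ_strHom N hg, ← RatSing.toK_strStalk N (genericPoint N.Z) a]
    show _ = (N.toKHom (genericPoint N.Z) ≫ N.ψ) _
    rw [Model.toKHom, Category.assoc, IsIso.inv_hom_id, Category.comp_id, TopCat.Presheaf.stalkSpecializes_refl]
    rfl
  have hft : φ.FiniteType := by
    refine RingHom.FiniteType.comp (f := (Scheme.ΓSpecIso R).inv.hom)
      (N.G.finiteType_appLE (isAffineOpen_top _) hU le_top) ?_
    exact RingHom.FiniteType.of_surjective _ (ConcreteCategory.bijective_of_isIso (Scheme.ΓSpecIso R).inv).2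
  letI := φ.toAlgebra
  haveI : Algebra.FiniteType R Γ(N.Z, U) := hft
  haveI := functionField_isFractionRing_of_isAffineOpen N.Z U hU
  obtain ⟨T, hT⟩ := (Algebra.FiniteType.out : (⊤ : Subalgebra R Γ(N.Z, U)).FG)
  let j : Γ(N.Z, U) →ₐ[R] N.Z.functionField :=
    { algebraMap Γ(N.Z, U) N.Z.functionField with commutes' := fun a => RingHom.congr_fun hφ a }
  have hj : Function.Injective j := IsFractionRing.injective Γ(N.Z, U) N.Z.functionField
  let S : Finset N.Z.functionField := T.image j
  have hrange : j.range = Algebra.adjoin R (S : Set N.Z.functionField) := by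
    rw [Finset.coe_image, ← AlgHom.map_adjoin, hT, Algebra.map_top]
  let e : Γ(N.Z, U) ≃ₐ[R] Algebra.adjoin R (S : Set N.Z.functionField) :=
    (AlgEquiv.ofInjective j hj).trans (Subalgebra.equivOfEq _ _ hrange)
  have he : ∀ a, (e a : N.Z.functionField) = algebraMap Γ(N.Z, U) N.Z.functionField a := fun a => rfl
  haveI := hF N.Z.functionField S
  have hiff : ∀ x : N.Z.functionField,
      IsIntegral (Algebra.adjoin R (S : Set N.Z.functionField)) x ↔ IsIntegral Γ(N.Z, U) x := fun x => by
    constructor
    · rintro ⟨p, hp, hpx⟩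
      refine ⟨p.map (e.symm : _ →+* Γ(N.Z, U)), hp.map _, ?_⟩
      rw [Polynomial.eval₂_map, ← hpx]
      congr 1
      exact RingHom.ext fun a => (he (e.symm a)).symm.trans (congrArg Subtype.val (e.apply_symm_apply a))
    · rintro ⟨p, hp, hpx⟩
      refine ⟨p.map (e : Γ(N.Z, U) →+* _), hp.map _, ?_⟩
      rw [Polynomial.eval₂_map, ← hpx]
      congr 1
  let E : integralClosure (Algebra.adjoin R (S : Set N.Z.functionField)) N.Z.functionField ≃+*
      integralClosure Γ(N.Z, U) N.Z.functionField :=
    { toFun := fun x => ⟨x.1, (hiff x.1).1 x.2⟩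
      invFun := fun x => ⟨x.1, (hiff x.1).2 x.2⟩
      map_mul' := fun _ _ => rfl
      map_add' := fun _ _ => rfl }
  refine Module.Finite.of_equiv_equiv e.toRingEquiv.symm E (RingHom.ext fun a => Subtype.ext ?_)
  exact (congrArg Subtype.val (e.apply_symm_apply a)).symm.trans (he (e.symm a)) |>.symm

/-- The base is a nice scheme. -/
theorem nice_of_finBir (hF : FinBir R) [IsNoetherianRing R] [IsIntegrallyClosed R]
    (hdim : ringKrullDim R ≤ 2) : Nice (Spec R) := by
  refine ⟨inferInstance, inferInstance, GeomIrrSpread.isNormalScheme_spec R, fun Z' _ g _ hg _ _ => ?_, fun z => ?_⟩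
  · let N : Model (Spec R) := { Z := Z', G := g, gen := SurfSeq.map_generic g hg, bir := hg }
    exact isFinite_normalizationι_of_finBir hF N
  · letI : Algebra R ((Spec R).presheaf.stalk z) := (StructureSheaf.toStalk R z).hom.toAlgebra
    haveI : IsLocalization.AtPrime ((Spec R).presheaf.stalk z) z.asIdeal :=
      inferInstanceAs (IsLocalization.AtPrime ((Spec.structureSheaf R).presheaf.stalk z) z.asIdeal)
    rw [IsLocalization.AtPrime.ringKrullDim_eq_height z.asIdeal]
    exact (Ideal.height_le_ringKrullDim_of_ne_top z.2.ne_top).trans hdim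

/-- Local rings of models have finite birational normalisations. -/
theorem finBir_stalk (hF : FinBir R) (N : Model (Spec R)) [LocallyOfFiniteType N.G] (z : N.Z) :
    FinBir (N.Z.presheaf.stalk z) := by
  classical
  obtain ⟨O, hO, hzO, -⟩ := exists_isAffineOpen_mem_and_subset (x := z) (U := ⊤) trivial
  let φ : R →+* Γ(N.Z, O) := BlowUpLib.strHom (A := R) N.G O
  have hft : φ.FiniteType := by
    refine RingHom.FiniteType.comp (f := (Scheme.ΓSpecIso R).inv.hom)
      (N.G.finiteType_appLE (isAffineOpen_top _) hO le_top) ?_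
    exact RingHom.FiniteType.of_surjective _ (ConcreteCategory.bijective_of_isIso (Scheme.ΓSpecIso R).inv).2
  letI := φ.toAlgebra
  haveI : Algebra.FiniteType R Γ(N.Z, O) := hft
  obtain ⟨T, hT⟩ := (Algebra.FiniteType.out : (⊤ : Subalgebra R Γ(N.Z, O)).FG)
  let γ := (N.Z.presheaf.germ O z hzO).hom
  have hγ : ∀ a, γ (φ a) = RatSing.strStalk N z a := fun a => RatSing.germ_strHom N hzO a
  refine finBir_of_localization hF (RatSing.strStalk N z) (fun K _ _ _ => ?_) (T.image γ) fun r => ?_
  · letI := ((algebraMap (N.Z.presheaf.stalk z) K).comp (RatSing.strStalk N z)).toAlgebra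
    haveI : FaithfulSMul R K := (faithfulSMul_iff_algebraMap_injective _ _).2 fun a b h => by
      have h1 := IsFractionRing.injective (N.Z.presheaf.stalk z) K h
      have h2 := congrArg (N.toKHom z) h1
      rw [RatSing.toK_strStalk, RatSing.toK_strStalk] at h2
      exact IsFractionRing.injective R (Spec R).functionField h2
    refine IsFractionRing.of_field _ _ fun x => ?_
    obtain ⟨p, q, hq, hpq⟩ := IsFractionRing.div_surjective (A := N.Z.presheaf.stalk z) x
    obtain ⟨a, b, hb, hab⟩ := IsFractionRing.div_surjective (A := R) (N.toKHom z p / N.toKHom z q)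
    refine ⟨a, b, ?_⟩
    have hb0 : algebraMap R (Spec R).functionField b ≠ 0 :=
      (map_ne_zero_iff _ (IsFractionRing.injective R _)).2 (nonZeroDivisors.ne_zero hb)
    have hq0 : N.toKHom z q ≠ 0 := (map_ne_zero_iff _ (N.toK_injective z)).2 (nonZeroDivisors.ne_zero hq)
    have h3 : p * RatSing.strStalk N z b = RatSing.strStalk N z a * q := by
      apply N.toK_injective z
      rw [map_mul, map_mul, RatSing.toK_strStalk, RatSing.toK_strStalk]
      exact ((div_eq_div_iff hb0 hq0).1 hab).symm
    rw [← hpq]
    show _ = algebraMap _ K (RatSing.strStalk N z a) / algebraMap _ K (RatSing.strStalk N z b)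
    rw [div_eq_div_iff ((map_ne_zero_iff _ (IsFractionRing.injective _ K)).2 (nonZeroDivisors.ne_zero hq))
      ((map_ne_zero_iff _ (IsFractionRing.injective _ K)).2 fun h0 => hb0 (by
        rw [← RatSing.toK_strStalk N z b, h0, map_zero])), ← map_mul, ← map_mul, h3]
  · have hcl : ∀ q : Γ(N.Z, O), γ q ∈ Subring.closure (Set.range (RatSing.strStalk N z) ∪ ((T.image γ : Finset _) : Set _)) := by
      intro q
      have hq : q ∈ Algebra.adjoin R (T : Set Γ(N.Z, O)) := by rw [hT]; trivial
      induction hq using Algebra.adjoin_induction with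
      | mem x hx => exact Subring.subset_closure (Or.inr (Finset.mem_coe.2 (Finset.mem_image_of_mem _ hx)))
      | algebraMap a => exact Subring.subset_closure (Or.inl ⟨a, (hγ a).symm⟩)
      | add x y _ _ hx hy => rw [map_add]; exact add_mem hx hy
      | mul x y _ _ hx hy => rw [map_mul]; exact mul_mem hx hy
    letI := N.Z.presheaf.algebra_section_stalk (⟨z, hzO⟩ : O)
    haveI := hO.isLocalization_stalk ⟨z, hzO⟩
    obtain ⟨⟨p, s⟩, hps⟩ := IsLocalization.surj (hO.primeIdealOf ⟨z, hzO⟩).asIdeal.primeCompl r
    exact ⟨γ p, γ s, hcl p, hcl s, IsLocalization.map_units (N.Z.presheaf.stalk z) s, hps⟩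

end Groth.Agent.NormSeq
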